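import Groth.Agent.Lib.FrobTors13.Twisted
import Groth.Prelude.Def_AlgSt5
import Mathlib.GroupTheory.OrderOfElement

/-! Torsors over a finite field with a prescribed Frobenius. -/

set_option backward.isDefEq.respectTransparency false
set_option backward.isDefEq.respectTransparency.types false

universe u

open CategoryTheory CategoryTheory.Limits AlgebraicGeometry MonoidalCategory CartesianMonoidalCategory MonObj

namespace GrothLib.FrobTors13

section Fpow

variable {M N : Type*} [Monoid M] [Monoid N] (φ : M →* M) (g : M)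

/-- The value at the `i`-th power of a generator of the cocycle with value `g` at the generator. -/
def fpow : ℕ → M
  | 0 => 1
  | i + 1 => φ (fpow i) * g

theorem fpow_add (i j : ℕ) : fpow φ g (i + j) = φ^[i] (fpow φ g j) * fpow φ g i := by
  induction i with
  | zero => simp [fpow]
  | succ i ih =>
    rw [Nat.add_right_comm, fpow, ih, map_mul, ← Function.iterate_succ_apply' φ, _root_.mul_assoc]
    rfl

theorem fpow_map (φ' : N →* N) (incl : M →* N) (h : ∀ x, incl (φ x) = φ' (incl x)) (i : ℕ) :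
    incl (fpow φ g i) = fpow φ' (incl g) i := by
  induction i with
  | zero => simp [fpow]
  | succ i ih => rw [fpow, fpow, map_mul, h, ih]

theorem fpow_mod {n : ℕ} (hn : fpow φ g n = 1) (m : ℕ) : fpow φ g m = fpow φ g (m % n) := by
  have key : ∀ i t, fpow φ g (i + n * t) = fpow φ g i := by
    intro i t
    induction t with
    | zero => simp
    | succ t ih => rw [Nat.mul_succ, ← Nat.add_assoc, fpow_add, hn, iterate_map_one, _root_.one_mul, ih]
  conv_lhs => rw [← Nat.mod_add_div m n]
  exact key _ _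

theorem fpow_mul {n : ℕ} (hn : ∀ x, φ^[n] x = x) (m : ℕ) : fpow φ g (n * m) = fpow φ g n ^ m := by
  induction m with
  | zero => simp [fpow]
  | succ m ih => rw [Nat.mul_succ, Nat.add_comm, fpow_add, hn, ih, pow_succ]

end Fpow

variable {k : Type u} [Field k] {G : Over (Spec (CommRingCat.of k))} [GrpObj G]
  {L : Type u} [Field L] [Algebra k L] [Finite L]
  {kb : Type u} [Field kb] [Algebra k kb] [Algebra L kb] [IsScalarTower k L kb] [IsAlgClosed kb]
  [Algebra.IsAlgebraic L kb] {σ : kb ≃ₐ[L] kb} (hσ : ∀ x : kb, σ x = x ^ Nat.card L)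

variable (L kb) in
/-- The Frobenius automorphism exists. -/
theorem exists_frob : ∃ σ : kb ≃ₐ[L] kb, ∀ x : kb, σ x = x ^ Nat.card L := by
  letI := Fintype.ofFinite L
  exact ⟨FiniteField.frobeniusAlgEquivOfAlgebraic L kb, fun x => by rw [Nat.card_eq_fintype_card]; rfl⟩

omit [Algebra k L] [Algebra k kb] [IsScalarTower k L kb] [Algebra.IsAlgebraic L kb] in
variable (L kb) in
theorem exists_level (n : ℕ) (hn : n ≠ 0) :
    ∃ K : IntermediateField L kb, FiniteDimensional L K ∧ Module.finrank L K = n := by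
  haveI : NeZero n := ⟨hn⟩
  obtain ⟨p, hp⟩ := CharP.exists L
  haveI : Fact p.Prime := ⟨CharP.char_is_prime L p⟩
  let f : FiniteField.Extension L p n →ₐ[L] kb := IsAlgClosed.lift
  have e := (AlgEquiv.ofInjectiveField f).toLinearEquiv
  exact ⟨f.fieldRange, Module.Finite.equiv e, e.finrank_eq.symm.trans (FiniteField.finrank_extension L p n)⟩

omit [Algebra k L] [Algebra k kb] [IsScalarTower k L kb] [IsAlgClosed kb] in
theorem le_of_finrank_dvd (K₀ K : IntermediateField L kb) [FiniteDimensional L K₀] [FiniteDimensional L K]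
    (h : Module.finrank L K₀ ∣ Module.finrank L K) : K₀ ≤ K := by
  intro x hx
  haveI : Finite K₀ := Module.finite_of_finite L
  haveI : Finite K := Module.finite_of_finite L
  letI := Fintype.ofFinite K₀
  have h0 : x ^ Nat.card K₀ = x := by
    rw [Nat.card_eq_fintype_card]
    exact congrArg Subtype.val (FiniteField.pow_card (⟨x, hx⟩ : K₀))
  have h1 : x ^ Nat.card K = x := by
    obtain ⟨t, ht⟩ := h
    rw [Module.natCard_eq_pow_finrank (K := L), ht, pow_mul, ← Module.natCard_eq_pow_finrank (K := L)]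
    clear ht
    induction t with
    | zero => simp
    | succ t ih => rw [pow_succ, pow_mul, ih, h0]
  haveI : Algebra.IsAlgebraic K kb := Algebra.IsAlgebraic.tower_top (K := L) K
  obtain ⟨y, hy⟩ := mem_range_of_pow_card (L := K) (kb := kb) h1
  exact hy ▸ y.2

/-- Precomposition by a Galois automorphism on points. -/
noncomputable def galHom {K : Type u} [Field K] [Algebra k K] [Algebra L K] [IsScalarTower k L K]
    (τ : K ≃ₐ[L] K) : (SGA7.pt (K := k) K ⟶ G) →* (SGA7.pt (K := k) K ⟶ G) where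
  toFun v := gal L K τ ≫ v
  map_one' := MonObj.comp_one _
  map_mul' _ _ := MonObj.comp_mul _ _ _

theorem galHom_apply {K : Type u} [Field K] [Algebra k K] [Algebra L K] [IsScalarTower k L K]
    (τ : K ≃ₐ[L] K) (v : SGA7.pt (K := k) K ⟶ G) : galHom τ v = gal L K τ ≫ v := rfl

theorem galHom_iterate {K : Type u} [Field K] [Algebra k K] [Algebra L K] [IsScalarTower k L K]
    (τ : K ≃ₐ[L] K) (i : ℕ) (v : SGA7.pt (K := k) K ⟶ G) : (galHom τ)^[i] v = gal L K (τ ^ i) ≫ v := by
  induction i with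
  | zero => rw [pow_zero, gal_one, Category.id_comp]; rfl
  | succ i ih => rw [Function.iterate_succ_apply', ih, galHom_apply, pow_succ', gal_mul, Category.assoc]

variable [IsAffineHom G.hom] [LocallyOfFiniteType G.hom]

include hσ in
/-- Every element of `G(kb)` is the Frobenius of a torsor over the finite field. -/
theorem exists_torsor (g : SGA7.pt (K := k) kb ⟶ G) :
    ∃ (P : Over (Spec (CommRingCat.of k))) (act : AlgGrp.Action G P) (π : P ⟶ SGA7.pt (K := k) L)
      (_ : IsPullback act.act (snd G P) π π) (p : SGA7.pt (K := k) kb ⟶ P),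
      NonAbH1.IsLocallyTrivialFor Scheme.etalePrecoverage (Over.mk π.left : Over (Spec (CommRingCat.of L))) ∧
      p ≫ π = res L kb ∧ IsFin L p ∧ gal L kb σ ≫ p = sm act g p := by
  letI := Fintype.ofFinite L
  obtain ⟨K₀, hK₀, g₀, hg₀⟩ := isFin_of_lft (L := L) g
  haveI : Finite K₀ := Module.finite_of_finite L
  haveI : Finite (SGA7.pt (K := k) K₀ ⟶ G) := finite_pts K₀
  let n₀ := Module.finrank L K₀
  let τ₀ : K₀ ≃ₐ[L] K₀ := FiniteField.frobeniusAlgEquivOfAlgebraic L K₀
  let c := fpow (galHom (k := k) τ₀) g₀ n₀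
  have hd : 0 < orderOf c := (isOfFinOrder_of_finite c).orderOf_pos
  obtain ⟨K, hK, hKn⟩ := exists_level L kb (n₀ * orderOf c) (Nat.mul_pos Module.finrank_pos hd).ne'
  have hle : K₀ ≤ K := le_of_finrank_dvd K₀ K (hKn ▸ dvd_mul_right _ _)
  haveI : Finite K := Module.finite_of_finite L
  haveI : IsGalois L K := GaloisField.instIsGaloisOfFinite
  let τ : K ≃ₐ[L] K := FiniteField.frobeniusAlgEquivOfAlgebraic L K
  have hτ : ∀ x : K, ((τ x : K) : kb) = σ (x : kb) := fun x => by
    rw [hσ, Nat.card_eq_fintype_card]; rfl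
  let inc : SGA7.pt (K := k) K ⟶ SGA7.pt (K := k) K₀ :=
    ptMap ((IntermediateField.inclusion hle).restrictScalars k)
  have hinc : jmap K ≫ inc = jmap (k := k) K₀ := by
    ext1
    show Spec.map _ ≫ Spec.map _ = Spec.map _
    rw [← Spec.map_comp]
    rfl
  have hsq : gal L K τ ≫ inc = inc ≫ gal (k := k) L K₀ τ₀ := by
    refine cancel_jmap K ?_
    rw [← Category.assoc, ← gal_jmap K σ τ hτ, Category.assoc, hinc, reassoc_of% hinc,
      ← gal_jmap K₀ σ τ₀ (fun x => by rw [hσ, Nat.card_eq_fintype_card]; rfl)]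
  let incl : (SGA7.pt (K := k) K₀ ⟶ G) →* (SGA7.pt (K := k) K ⟶ G) :=
    { toFun := fun v => inc ≫ v, map_one' := MonObj.comp_one _, map_mul' := fun _ _ => MonObj.comp_mul _ _ _ }
  let n := Module.finrank L K
  let v := fpow (galHom (k := k) τ) (incl g₀)
  have hvn : v n = 1 := by
    show fpow _ _ (Module.finrank L K) = 1
    rw [hKn, ← fpow_map (galHom (k := k) τ₀) g₀ (galHom τ) incl (fun x => (reassoc_of% hsq) x |>.symm),
      fpow_mul, pow_orderOf_eq_one, map_one]
    intro x
    rw [galHom_iterate, show τ₀ ^ Module.finrank L K₀ = 1 by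
      rw [← FiniteField.orderOf_frobeniusAlgEquivOfAlgebraic L K₀]; exact pow_orderOf_eq_one _,
      gal_one, Category.id_comp]
  choose idx hidx using (FiniteField.bijective_frobeniusAlgEquivOfAlgebraic_pow L K).2
  let a : (K ≃ₐ[L] K) → (SGA7.pt (K := k) K ⟶ G) := fun s => v (idx s)
  have ha : ∀ m : ℕ, a (τ ^ m) = v m := by
    intro m
    have h := hidx (τ ^ m)
    simp only at h
    rw [pow_eq_pow_iff_modEq, FiniteField.orderOf_frobeniusAlgEquivOfAlgebraic] at h
    show fpow _ _ _ = fpow _ _ m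
    rw [fpow_mod _ _ hvn, fpow_mod _ _ hvn m, h]
  have hmul : ∀ s t, a (s * t) = (gal L K s ≫ a t) * a s := by
    intro s t
    obtain ⟨i, rfl⟩ : ∃ i : ℕ, τ ^ i = s := ⟨_, hidx s⟩
    obtain ⟨j, rfl⟩ : ∃ j : ℕ, τ ^ j = t := ⟨_, hidx t⟩
    rw [← pow_add, ha, ha, ha, ← galHom_iterate]
    exact fpow_add _ _ i j
  obtain ⟨P, act, π, cart, p₀, hp₀, hg⟩ := exists_torsor_level a
    (by simpa [v, fpow] using ha 0) hmul
  refine ⟨P, act, π, cart, jmap K ≫ p₀, ?_, by rw [Category.assoc, hp₀, jmap_res],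
    ⟨K, hK, p₀, rfl⟩, ?_⟩
  · refine ⟨Presieve.singleton (res (k := k) L K).left, ?_, ?_⟩
    · rw [Scheme.etalePrecoverage, Scheme.singleton_mem_precoverage_iff]
      exact ⟨(surjective_ptMap (k := k) (IsScalarTower.toAlgHom k L K)).surj,
        GrothLib.GalForms21.smooth_pt (k := L) (K := K)⟩
    · rintro S' f ⟨⟩
      exact ⟨p₀.left, congrArg CommaMorphism.left hp₀⟩
  · rw [← Category.assoc, gal_jmap K σ τ hτ, Category.assoc, hg τ, comp_sm]
    have : a τ = incl g₀ := by simpa [v, fpow] using ha 1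
    rw [this]
    show sm act (jmap K ≫ inc ≫ g₀) _ = _
    rw [reassoc_of% hinc, hg₀]

end GrothLib.FrobTors13
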