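import Groth.Prelude.Def_GSzH1
import Mathlib.FieldTheory.KrullTopology
import Mathlib.FieldTheory.Finite.Basic
import Mathlib.FieldTheory.Finite.GaloisField
import Mathlib.FieldTheory.Separable
import Mathlib.FieldTheory.IsAlgClosed.AlgebraicClosure
import Mathlib.FieldTheory.IsAlgClosed.Basic

/-!
Locally constant cocycles (any algebraic closure) of the absolute Galois group of a finite field are determined by their
value at Frobenius, which is arbitrary.
-/

universe u v

open scoped Topology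

namespace GrothLib.FrobTors13.Coc

variable {k : Type u} [Field k] [Finite k] {kb : Type u} [Field kb] [Algebra k kb] [IsAlgClosed kb]
  [Algebra.IsAlgebraic k kb]

variable {π : kb ≃ₐ[k] kb}

theorem pow_apply_eq (hπ : ∀ x : kb, π x = x ^ Nat.card k) (n : ℕ) (x : kb) :
    (π ^ n) x = x ^ Nat.card k ^ n := by
  induction n with
  | zero => simp
  | succ n ih => rw [pow_succ', AlgEquiv.mul_apply, ih, hπ, ← pow_mul, ← pow_succ]

/-- On a finite subextension every automorphism is a power of Frobenius. -/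
theorem exists_pow_eq (hπ : ∀ x : kb, π x = x ^ Nat.card k) (L : IntermediateField k kb)
    [FiniteDimensional k L] (σ : (kb ≃ₐ[k] kb)) : ∃ n : ℕ, ∀ x ∈ L, (π ^ n) x = σ x := by
  letI := Fintype.ofFinite k
  have : Finite L := Module.finite_of_finite k
  have : IsGalois k L := GaloisField.instIsGaloisOfFinite
  let τ : L →ₐ[k] L := AlgHom.restrictNormal (σ : kb →ₐ[k] kb) L
  let e : L ≃ₐ[k] L := AlgEquiv.ofBijective τ (Finite.injective_iff_bijective.1 τ.toRingHom.injective)
  obtain ⟨n, hn⟩ := (FiniteField.bijective_frobeniusAlgEquivOfAlgebraic_pow k L).2 e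
  refine ⟨n.1, fun x hx => ?_⟩
  have h1 : ((e ⟨x, hx⟩ : L) : kb) = σ x := AlgHom.restrictNormal_commutes (σ : kb →ₐ[k] kb) L ⟨x, hx⟩
  rw [← h1, ← hn, pow_apply_eq hπ, AlgEquiv.coe_pow,
    FiniteField.coe_frobeniusAlgEquivOfAlgebraic_iterate, Nat.card_eq_fintype_card]
  rfl

/-- Powers of Frobenius meet every nonempty open set. -/
theorem exists_pow_mem (hπ : ∀ x : kb, π x = x ^ Nat.card k) {U : Set (kb ≃ₐ[k] kb)} (hU : IsOpen U) {σ : (kb ≃ₐ[k] kb)}
    (hσ : σ ∈ U) : ∃ n : ℕ, π ^ n ∈ U := by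
  have h : (fun τ => σ * τ) ⁻¹' U ∈ 𝓝 (1 : (kb ≃ₐ[k] kb)) :=
    ((continuous_const_mul σ).isOpen_preimage U hU).mem_nhds (by simpa using hσ)
  obtain ⟨E, _, hE⟩ := (krullTopology_mem_nhds_one_iff k kb _).1 h
  obtain ⟨n, hn⟩ := exists_pow_eq hπ E σ
  refine ⟨n, ?_⟩
  have : σ⁻¹ * π ^ n ∈ E.fixingSubgroup := by
    rw [IntermediateField.mem_fixingSubgroup_iff]
    intro x hx
    rw [AlgEquiv.mul_apply, hn x hx]
    exact σ.symm_apply_apply x
  simpa using hE this

variable {A : Type v} [Group A] [MulDistribMulAction (kb ≃ₐ[k] kb) A]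

/-- The value of the cocycle with value `a` at Frobenius on its `n`-th power. -/
noncomputable def powVal (π : (kb ≃ₐ[k] kb)) (a : A) : ℕ → A
  | 0 => 1
  | n + 1 => powVal π a n * π ^ n • a

theorem powVal_add (π : (kb ≃ₐ[k] kb)) (a : A) (m n : ℕ) :
    powVal π a (m + n) = powVal π a m * π ^ m • powVal π a n := by
  induction n with
  | zero => simp [powVal]
  | succ n ih =>
    show powVal π a (m + n) * π ^ (m + n) • a = _
    rw [ih, powVal, smul_mul', smul_smul, ← pow_add, mul_assoc]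

theorem cocycle_pow {π : (kb ≃ₐ[k] kb)} (z : GpH1.OneCocycle (kb ≃ₐ[k] kb) A) (n : ℕ) :
    z.1 (π ^ n) = powVal π (z.1 π) n := by
  induction n with
  | zero =>
    have h := z.2 1 1
    rw [one_smul, mul_one, left_eq_mul] at h
    rw [pow_zero]; exact h
  | succ n ih => rw [pow_succ, z.2, ih]; rfl

theorem cocycle_ext (hπ : ∀ x : kb, π x = x ^ Nat.card k) (z w : GpH1.OneCocycleLC (kb ≃ₐ[k] kb) A)
    (h : z.1.1 π = w.1.1 π) : z = w := by
  refine Subtype.ext (Subtype.ext (funext fun σ => ?_))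
  obtain ⟨n, hn⟩ := exists_pow_mem hπ ((z.2.isOpen_fiber (z.1.1 σ)).inter (w.2.isOpen_fiber (w.1.1 σ)))
    (σ := σ) ⟨rfl, rfl⟩
  rw [← hn.1, ← hn.2, cocycle_pow, cocycle_pow, h]

theorem exists_cocycle (hπ : ∀ x : kb, π x = x ^ Nat.card k)
    (hcont : ∀ a : A, IsOpen {σ : (kb ≃ₐ[k] kb) | σ • a = a})
    (hfin : ∀ a : A, ∃ H : Subgroup A, (H : Set A).Finite ∧ a ∈ H ∧
      ∀ (σ : (kb ≃ₐ[k] kb)) (x : A), x ∈ H → σ • x ∈ H) (a : A) :
    ∃ z : GpH1.OneCocycleLC (kb ≃ₐ[k] kb) A, z.1.1 π = a := by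
  classical
  obtain ⟨H, hH, haH, hstab⟩ := hfin a
  obtain ⟨L, _, hL⟩ := (krullTopology_mem_nhds_one_iff k kb {σ : (kb ≃ₐ[k] kb) | ∀ x ∈ H, σ • x = x}).1 (by
    have h : IsOpen {σ : (kb ≃ₐ[k] kb) | ∀ x ∈ H, σ • x = x} := by
      have : {σ : (kb ≃ₐ[k] kb) | ∀ x ∈ H, σ • x = x} = ⋂ x ∈ (H : Set A), {σ : (kb ≃ₐ[k] kb) | σ • x = x} := by
        ext; simp
      rw [this]
      exact hH.isOpen_biInter fun x _ => hcont x
    exact h.mem_nhds fun x _ => one_smul _ x)
  letI := Fintype.ofFinite k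
  have : Finite L := Module.finite_of_finite k
  letI := Fintype.ofFinite L
  let m := Module.finrank k L
  have hm : 0 < m := Module.finrank_pos
  have hmL : ∀ x ∈ L, x ^ Nat.card k ^ m = x := fun x hx => by
    have h := congrArg Subtype.val (FiniteField.pow_card (⟨x, hx⟩ : L))
    rw [Module.card_eq_pow_finrank (K := k) (V := L), ← Nat.card_eq_fintype_card] at h
    exact h
  have hmem : ∀ n, powVal π a n ∈ H := by
    intro n
    induction n with
    | zero => exact one_mem _
    | succ n ih => exact mul_mem ih (hstab _ _ haH)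
  have hfixm : ∀ i, ∀ x ∈ H, π ^ (m * i) • x = x := by
    intro i
    refine hL ((IntermediateField.mem_fixingSubgroup_iff _ _).2 fun x hx => ?_)
    induction i with
    | zero => simp
    | succ i ih =>
      rw [Nat.mul_succ, pow_add, AlgEquiv.mul_apply, pow_apply_eq hπ m x, hmL x hx, ih]
  have : Finite H := hH.to_subtype
  let c : H := ⟨powVal π a m, hmem m⟩
  let d := orderOf c
  have hd : 0 < d := (isOfFinOrder_of_finite c).orderOf_pos
  have hpow : ∀ i, powVal π a (m * i) = powVal π a m ^ i := by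
    intro i
    induction i with
    | zero => simp [powVal]
    | succ i ih => rw [Nat.mul_succ, powVal_add, ih, hfixm i _ (hmem m), pow_succ]
  let e := m * d
  have he : powVal π a e = 1 := by
    rw [hpow]
    exact congrArg Subtype.val (pow_orderOf_eq_one c)
  have hper : ∀ n j, powVal π a (n + e * j) = powVal π a n := by
    intro n j
    induction j with
    | zero => simp
    | succ j ih =>
      rw [Nat.mul_succ, ← add_assoc, powVal_add, ih, he, smul_one, mul_one]
  -- the fixed field of `π ^ e`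
  have hq : 1 < Nat.card k := Finite.one_lt_card
  let S : Set kb := {x | x ^ Nat.card k ^ e = x}
  have hSfin : S.Finite := by
    have hdeg : 1 < Nat.card k ^ e := Nat.one_lt_pow (Nat.mul_pos hm hd).ne' hq
    refine (Polynomial.finite_setOf_isRoot (p := (Polynomial.X ^ Nat.card k ^ e - Polynomial.X : Polynomial kb))
      (FiniteField.X_pow_card_sub_X_ne_zero kb hdeg)).subset fun x hx => ?_
    have hx' : x ^ Nat.card k ^ e = x := hx
    show Polynomial.eval x _ = 0
    rw [Polynomial.eval_sub, Polynomial.eval_pow, Polynomial.eval_X, hx', sub_self]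
  let M : IntermediateField k kb := IntermediateField.adjoin k S
  have : FiniteDimensional k M := by
    rw [← Set.finite_coe_iff] at hSfin
    exact IntermediateField.finiteDimensional_adjoin fun x _ => Algebra.IsIntegral.isIntegral x
  have hLM : L ≤ M := fun x hx => IntermediateField.subset_adjoin k S (by
    show x ^ Nat.card k ^ e = x
    have : ∀ j, x ^ Nat.card k ^ (m * j) = x := by
      intro j
      induction j with
      | zero => simp
      | succ j ih => rw [Nat.mul_succ, pow_add, pow_mul, ih, hmL x hx]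
    exact this d)
  have hMfix : ∀ j, ∀ x ∈ M, (π ^ (e * j)) x = x := by
    intro j x hx
    have h1 : π ^ e ∈ M.fixingSubgroup := by
      have : M ≤ IntermediateField.fixedField (Subgroup.zpowers (π ^ e)) := by
        rw [IntermediateField.adjoin_le_iff]
        intro y hy g
        obtain ⟨g, i, rfl⟩ := g
        show ((π ^ e) ^ i) y = y
        have hy' : π ^ e ∈ MulAction.stabilizer (kb ≃ₐ[k] kb) y := by
          show (π ^ e) y = y
          rw [pow_apply_eq hπ]; exact hy
        exact Subgroup.zpow_mem _ hy' i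
      rw [IntermediateField.mem_fixingSubgroup_iff]
      intro y hy
      exact this hy ⟨π ^ e, Subgroup.mem_zpowers _⟩
    rw [pow_mul]
    exact (IntermediateField.mem_fixingSubgroup_iff _ _).1 (Subgroup.pow_mem _ h1 j) x hx
  have hagree : ∀ n₁ n₂ : ℕ, (∀ x ∈ M, (π ^ n₁) x = (π ^ n₂) x) → n₁ ≤ n₂ →
      powVal π a n₁ = powVal π a n₂ := by
    intro n₁ n₂ h hle
    obtain ⟨t, rfl⟩ := Nat.exists_eq_add_of_le hle
    suffices e ∣ t by obtain ⟨j, rfl⟩ := this; rw [hper]
    have ht : ∀ x ∈ M, (π ^ (t % e)) x = x := fun x hx => by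
      have h' := h x hx
      rw [pow_add, AlgEquiv.mul_apply] at h'
      have h'' := (π ^ n₁).injective h'
      conv_rhs at h'' => rw [← Nat.mod_add_div t e, pow_add, AlgEquiv.mul_apply, hMfix _ x hx]
      exact h''.symm
    by_contra hne
    have hpos : 0 < t % e := Nat.pos_of_ne_zero fun h0 => hne (Nat.dvd_of_mod_eq_zero h0)
    have hlt : t % e < e := Nat.mod_lt _ (Nat.mul_pos hm hd)
    have hsub : ((Polynomial.X ^ Nat.card k ^ e - Polynomial.X : Polynomial kb)).rootSet kb ⊆
        ((Polynomial.X ^ Nat.card k ^ (t % e) - Polynomial.X : Polynomial kb)).rootSet kb := by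
      intro x hx
      rw [Polynomial.mem_rootSet] at hx ⊢
      refine ⟨FiniteField.X_pow_card_sub_X_ne_zero kb (Nat.one_lt_pow hpos.ne' hq), ?_⟩
      have hxS : x ∈ S := by simpa [sub_eq_zero, S] using hx.2
      have := ht x (IntermediateField.subset_adjoin k S hxS)
      rw [pow_apply_eq hπ] at this
      simpa [sub_eq_zero] using this
    have hsep : (Polynomial.X ^ Nat.card k ^ e - Polynomial.X : Polynomial kb).Separable := by
      obtain ⟨p, hp⟩ := CharP.exists k
      obtain ⟨r, hpr, hcard⟩ := FiniteField.card k p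
      have : CharP kb p := charP_of_injective_algebraMap (algebraMap k kb).injective p
      refine galois_poly_separable p _ ?_
      rw [Nat.card_eq_fintype_card, hcard, ← pow_mul]
      exact dvd_pow_self p (Nat.mul_ne_zero r.ne_zero (Nat.mul_pos hm hd).ne')
    have h1 := Polynomial.card_rootSet_eq_natDegree hsep (IsAlgClosed.splits ((Polynomial.X ^ Nat.card k ^ e - Polynomial.X : Polynomial kb).map (algebraMap kb kb)))
    have h2 := Polynomial.ncard_rootSet_le (Polynomial.X ^ Nat.card k ^ (t % e) - Polynomial.X : Polynomial kb) kb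
    have h3 := Set.ncard_le_ncard hsub ((Polynomial.X ^ Nat.card k ^ (t % e) - Polynomial.X : Polynomial kb).rootSet_finite kb)
    rw [← Nat.card_eq_fintype_card, Nat.card_coe_set_eq] at h1
    rw [FiniteField.X_pow_card_sub_X_natDegree_eq kb (Nat.one_lt_pow (Nat.mul_pos hm hd).ne' hq)] at h1
    rw [FiniteField.X_pow_card_sub_X_natDegree_eq kb (Nat.one_lt_pow hpos.ne' hq)] at h2
    have := Nat.pow_lt_pow_right hq hlt
    linarith
  have key : ∀ (σ : (kb ≃ₐ[k] kb)) (n₁ n₂ : ℕ), (∀ x ∈ M, (π ^ n₁) x = σ x) → (∀ x ∈ M, (π ^ n₂) x = σ x) →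
      powVal π a n₁ = powVal π a n₂ := fun σ n₁ n₂ h₁ h₂ =>
    (le_total n₁ n₂).elim (hagree n₁ n₂ fun x hx => (h₁ x hx).trans (h₂ x hx).symm)
      fun h => (hagree n₂ n₁ (fun x hx => (h₂ x hx).trans (h₁ x hx).symm) h).symm
  choose ν hν using fun σ : (kb ≃ₐ[k] kb) => exists_pow_eq hπ M σ
  let z : (kb ≃ₐ[k] kb) → A := fun σ => powVal π a (ν σ)
  have hz : GpH1.IsOneCocycle z := by
    intro σ τ
    have h1 : z (σ * τ) = powVal π a (ν σ + ν τ) := by
      refine key (σ * τ) _ _ (hν _) fun x hx => ?_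
      rw [pow_add, AlgEquiv.mul_apply, hν τ x hx, AlgEquiv.mul_apply]
      have hτ : τ x ∈ M := by
        have : M.map (τ : kb →ₐ[k] kb) ≤ M := by
          rw [IntermediateField.adjoin_map, IntermediateField.adjoin_le_iff]
          rintro _ ⟨y, hy, rfl⟩
          refine IntermediateField.subset_adjoin k S ?_
          show τ y ^ Nat.card k ^ e = τ y
          rw [← map_pow, show y ^ Nat.card k ^ e = y from hy]
        exact this ⟨x, hx, rfl⟩
      exact hν σ _ hτ
    rw [h1, powVal_add]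
    refine congrArg (powVal π a (ν σ) * ·) ?_
    have hN : σ⁻¹ * π ^ ν σ ∈ L.fixingSubgroup := by
      rw [IntermediateField.mem_fixingSubgroup_iff]
      intro x hx
      rw [AlgEquiv.mul_apply, hν σ x (hLM hx)]
      exact σ.symm_apply_apply x
    have h2 := hL hN (powVal π a (ν τ)) (hmem _)
    rw [mul_smul] at h2
    exact inv_smul_eq_iff.1 h2
  have hlc : IsLocallyConstant z := (IsLocallyConstant.iff_exists_open z).2 fun σ =>
    ⟨(fun τ => σ⁻¹ * τ) ⁻¹' (M.fixingSubgroup : Set (kb ≃ₐ[k] kb)),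
      (IntermediateField.fixingSubgroup_isOpen M).preimage (continuous_const_mul σ⁻¹), by simp,
      fun τ hτ => key σ _ _ (fun x hx => by
        rw [hν τ x hx]
        have h1 := (IntermediateField.mem_fixingSubgroup_iff _ _).1 hτ x hx
        rw [AlgEquiv.mul_apply] at h1
        exact (σ.symm_apply_eq).1 h1) (hν σ)⟩
  refine ⟨⟨⟨z, hz⟩, hlc⟩, ?_⟩
  show z π = a
  rw [show z π = powVal π a 1 from key π _ _ (hν π) (fun x _ => by rw [pow_one])]
  simp [powVal]

theorem result (hπ : ∀ x : kb, π x = x ^ Nat.card k)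
    (hcont : ∀ a : A, IsOpen {σ : (kb ≃ₐ[k] kb) | σ • a = a})
    (hfin : ∀ a : A, ∃ H : Subgroup A, (H : Set A).Finite ∧ a ∈ H ∧
      ∀ (σ : (kb ≃ₐ[k] kb)) (x : A), x ∈ H → σ • x ∈ H) :
    Function.Bijective (fun z : GpH1.OneCocycleLC (kb ≃ₐ[k] kb) A => z.1.1 π) ∧
      ∀ z z' : GpH1.OneCocycleLC (kb ≃ₐ[k] kb) A,
        z.cl = z'.cl ↔ ∃ g : A, z'.1.1 π = g * z.1.1 π * (π • g)⁻¹ := by
  refine ⟨⟨fun z w h => cocycle_ext hπ z w h, exists_cocycle hπ hcont hfin⟩, fun z z' => ?_⟩
  rw [GpH1.OneCocycleLC.cl_eq_cl_iff]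
  constructor
  · rintro ⟨c, hc⟩
    refine ⟨c, ?_⟩
    rw [show z.1.1 π = _ from hc π]
    group
  · rintro ⟨g, hg⟩
    let w : GpH1.OneCocycleLC (kb ≃ₐ[k] kb) A := ⟨⟨fun σ => g⁻¹ * z'.1.1 σ * σ • g, fun σ τ => by
      show g⁻¹ * z'.1.1 (σ * τ) * (σ * τ) • g = _
      rw [z'.1.2, mul_smul, smul_mul', smul_mul', smul_inv']
      group⟩, by
      have h1 : IsLocallyConstant fun σ : (kb ≃ₐ[k] kb) => σ • g := (IsLocallyConstant.iff_exists_open _).2 fun σ =>
        ⟨(fun τ => σ⁻¹ * τ) ⁻¹' {ρ : (kb ≃ₐ[k] kb) | ρ • g = g},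
          (hcont g).preimage (continuous_const_mul σ⁻¹), by simp, fun τ hτ => by
            have : (σ⁻¹ * τ) • g = g := hτ
            rw [mul_smul] at this
            exact inv_smul_eq_iff.1 this⟩
      exact (z'.2.comp fun x => g⁻¹ * x).mul h1⟩
    have : z = w := cocycle_ext hπ z w (by
      show z.1.1 π = g⁻¹ * z'.1.1 π * π • g
      rw [hg]; simp [mul_assoc])
    exact ⟨g, fun σ => by rw [this]⟩

end GrothLib.FrobTors13.Coc
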