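import Mathlib.GroupTheory.GroupAction.Quotient
import Mathlib.GroupTheory.Index
import Mathlib.Algebra.BigOperators.Finprod
import Mathlib.Data.Rat.Defs
import Mathlib.Algebra.Order.Ring.Rat
import Mathlib.Tactic.FieldSimp

/-! Mass formulas for group actions. -/

open scoped BigOperators

namespace GrothLib.FrobTors13

variable {Γ : Type*} [Group Γ]

/-- The mass formula for a finite group acting on a finite set. -/
theorem sum_orbits_inv_stab [Finite Γ] {M : Type*} [MulAction Γ M] [Finite M]
    [Fintype (Quotient (MulAction.orbitRel Γ M))] :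
    ∑ q : Quotient (MulAction.orbitRel Γ M), ((Nat.card (MulAction.stabilizer Γ q.out) : ℚ))⁻¹ =
      (Nat.card M : ℚ) / (Nat.card Γ : ℚ) := by
  classical
  rw [eq_div_iff (Nat.cast_ne_zero.2 Nat.card_pos.ne'), Finset.sum_mul,
    Nat.card_congr (MulAction.selfEquivSigmaOrbitsQuotientStabilizer Γ M), Nat.card_sigma, Nat.cast_sum]
  refine Finset.sum_congr rfl fun q _ => ?_
  have h0 : (Nat.card (MulAction.stabilizer Γ q.out) : ℚ) ≠ 0 := Nat.cast_ne_zero.2 Nat.card_pos.ne'
  rw [inv_mul_eq_iff_eq_mul₀ h0, ← Nat.cast_mul]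
  exact congrArg _ (Subgroup.card_mul_index (MulAction.stabilizer Γ q.out)).symm

/-- The cardinality of a stabilizer is constant on orbits. -/
theorem card_stabilizer_eq_of_rel {M : Type*} [MulAction Γ M] {x y : M} (h : MulAction.orbitRel Γ M x y) :
    Nat.card (MulAction.stabilizer Γ x) = Nat.card (MulAction.stabilizer Γ y) :=
  Nat.card_congr (MulAction.stabilizerEquivStabilizerOfOrbitRel h).toEquiv

variable {O B C : Type*} [MulAction Γ O] [MulAction Γ B]

/-- The mass of an action fibred over another action with representatives `r` of the orbits. -/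
theorem sum_orbits_fibred [Fintype C] (f : O → B) (hf : ∀ (h : Γ) o, f (h • o) = h • f o)
    (r : C → B) (hsurj : ∀ b, ∃ c, ∃ h : Γ, h • r c = b) (hinj : ∀ c c', ∀ h : Γ, h • r c = r c' → c = c')
    (hH : ∀ c, Finite (MulAction.stabilizer Γ (r c))) (hM : ∀ c, Finite {o // f o = r c})
    [Fintype (Quotient (MulAction.orbitRel Γ O))] :
    ∑ q : Quotient (MulAction.orbitRel Γ O), ((Nat.card (MulAction.stabilizer Γ q.out) : ℚ))⁻¹ =
      ∑ c : C, (Nat.card {o // f o = r c} : ℚ) / (Nat.card (MulAction.stabilizer Γ (r c)) : ℚ) := by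
  classical
  letI act : ∀ c, MulAction (MulAction.stabilizer Γ (r c)) {o // f o = r c} := fun c =>
    { smul := fun h o => ⟨(h : Γ) • o.1, by rw [hf, o.2]; exact h.2⟩
      one_smul := fun o => Subtype.ext (one_smul Γ o.1)
      mul_smul := fun h h' o => Subtype.ext (mul_smul (h : Γ) (h' : Γ) o.1) }
  haveI := hH
  haveI := hM
  let Qc := fun c => Quotient (MulAction.orbitRel (MulAction.stabilizer Γ (r c)) {o // f o = r c})
  haveI : ∀ c, Fintype (Qc c) := fun c => Fintype.ofFinite _
  let e : (Σ c, Qc c) → Quotient (MulAction.orbitRel Γ O) := fun p =>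
    Quotient.map (fun o => o.1) (by rintro o o' ⟨h, hh⟩; exact ⟨(h : Γ), congrArg Subtype.val hh⟩) p.2
  have he : Function.Bijective e := by
    constructor
    · rintro ⟨c, q⟩ ⟨c', q'⟩
      induction q, q' using Quotient.inductionOn₂ with
      | h o o' =>
        intro h
        obtain ⟨γ, hγ⟩ : ∃ γ : Γ, γ • o'.1 = o.1 := Quotient.exact h
        have hb : γ • r c' = r c := by rw [← o'.2, ← hf, hγ, o.2]
        obtain rfl : c' = c := hinj _ _ γ hb
        exact Sigma.ext rfl (heq_of_eq (Quotient.sound ⟨⟨γ, hb⟩, Subtype.ext hγ⟩))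
    · intro q
      induction q using Quotient.inductionOn with
      | h o =>
        obtain ⟨c, γ, hγ⟩ := hsurj (f o)
        refine ⟨⟨c, ⟦⟨γ⁻¹ • o, by rw [hf, ← hγ, inv_smul_smul]⟩⟧⟩, Quotient.sound ⟨γ⁻¹, rfl⟩⟩
  rw [← Fintype.sum_bijective e he _ _ fun _ => rfl, Fintype.sum_sigma]
  refine Finset.sum_congr rfl fun c _ => ?_
  rw [← sum_orbits_inv_stab]
  refine Finset.sum_congr rfl fun q _ => ?_
  refine congrArg (fun n : ℕ => (n : ℚ)⁻¹) ?_
  have h1 : MulAction.orbitRel Γ O (e ⟨c, q⟩).out q.out.1 := by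
    refine Quotient.exact (s := MulAction.orbitRel Γ O) ?_
    rw [Quotient.out_eq]
    conv_lhs => rw [← Quotient.out_eq q]
    rfl
  rw [card_stabilizer_eq_of_rel h1]
  refine (Nat.card_congr ?_).symm
  exact
    { toFun := fun h => ⟨(h.1 : Γ), congrArg Subtype.val h.2⟩
      invFun := fun γ => ⟨⟨γ.1, by
        show γ.1 • r c = r c
        exact ((congrArg (γ.1 • ·) q.out.2).symm.trans (hf γ.1 q.out.1).symm).trans
          ((congrArg f γ.2).trans q.out.2)⟩, Subtype.ext γ.2⟩
      left_inv := fun h => rfl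
      right_inv := fun γ => rfl }

end GrothLib.FrobTors13
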