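import Groth.Agent.Lib.FrobTors13.Point
import Groth.Agent.Lib.QuotSt.Triv
import Mathlib.AlgebraicGeometry.Sites.Etale

/-! Maps out of torsors over a finite field are determined by one geometric point and Frobenius. -/

set_option backward.isDefEq.respectTransparency false
set_option backward.isDefEq.respectTransparency.types false

universe u

open CategoryTheory CategoryTheory.Limits AlgebraicGeometry MonoidalCategory CartesianMonoidalCategory MonObj

namespace GrothLib.FrobTors13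

section Calculus

variable {S : Scheme.{u}} {G : Over S} [GrpObj G] {P Y Z Z' : Over S}

/-- `g ⋆ x` on points. -/
noncomputable abbrev sm (a : AlgGrp.Action G P) (g : Z ⟶ G) (x : Z ⟶ P) : Z ⟶ P := lift g x ≫ a.act

variable (a : AlgGrp.Action G P)

theorem comp_sm (u : Z' ⟶ Z) (g : Z ⟶ G) (x : Z ⟶ P) : u ≫ sm a g x = sm a (u ≫ g) (u ≫ x) := by
  show u ≫ lift g x ≫ a.act = lift (u ≫ g) (u ≫ x) ≫ a.act
  rw [← Category.assoc, comp_lift]

theorem one_sm (x : Z ⟶ P) : sm a 1 x = x := GrothLib.QuotSt.lift_one_act a x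

theorem mul_sm (g h : Z ⟶ G) (x : Z ⟶ P) : sm a (g * h) x = sm a g (sm a h x) :=
  (GrothLib.QuotSt.lift_mul_act a g h x).symm

theorem sm_inv_sm (g : Z ⟶ G) (x : Z ⟶ P) : sm a g⁻¹ (sm a g x) = x := by
  rw [← mul_sm, inv_mul_cancel, one_sm]

theorem sm_comp {b : AlgGrp.Action G Y} {e : P ⟶ Y} (he : a.act ≫ e = (G ◁ e) ≫ b.act) (g : Z ⟶ G)
    (x : Z ⟶ P) : sm a g x ≫ e = sm b g (x ≫ e) := by
  show (lift g x ≫ a.act) ≫ e = lift g (x ≫ e) ≫ b.act
  rw [Category.assoc, he, ← Category.assoc, lift_whiskerLeft]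

variable {T : Over S} {π : P ⟶ T} (cart : IsPullback a.act (snd G P) π π)

include cart in
theorem sm_π (g : Z ⟶ G) (x : Z ⟶ P) : sm a g x ≫ π = x ≫ π := by
  show (lift g x ≫ a.act) ≫ π = x ≫ π
  rw [Category.assoc, cart.w, lift_snd_assoc]

include cart in
theorem sm_cancel {g g' : Z ⟶ G} {x : Z ⟶ P} (h : sm a g x = sm a g' x) : g = g' := by
  have := cart.hom_ext (show lift g x ≫ a.act = lift g' x ≫ a.act from h)
    (show lift g x ≫ snd G P = lift g' x ≫ snd G P by simp)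
  simpa using congrArg (· ≫ fst G P) this

include cart in
theorem exists_sm {x y : Z ⟶ P} (h : x ≫ π = y ≫ π) : ∃ g : Z ⟶ G, sm a g y = x := by
  refine ⟨cart.lift x y h ≫ fst G P, ?_⟩
  have e : lift (cart.lift x y h ≫ fst G P) y = cart.lift x y h := by
    refine CartesianMonoidalCategory.hom_ext _ _ (by simp) ?_
    rw [lift_snd]
    exact (cart.lift_snd x y h).symm
  show lift _ _ ≫ a.act = x
  rw [e]
  exact cart.lift_fst x y h

include cart in
/-- The trivialisation of a torsor by a point. -/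
theorem isPullback_orbit {T' : Over S} (p : T' ⟶ P) :
    IsPullback (sm a (fst G T') (snd G T' ≫ p)) (snd G T') π (p ≫ π) := by
  have e : sm a (fst G T') (snd G T' ≫ p) = (G ◁ p) ≫ a.act := by
    show lift _ _ ≫ a.act = _
    congr 1
  rw [e]
  exact (AlgSt.isPullback_whiskerLeft p).paste_horiz cart

theorem whiskerLeft_eq_lift {W : Over S} (c : W ⟶ P) : G ◁ c = lift (fst G W) (snd G W ≫ c) := by
  apply CartesianMonoidalCategory.hom_ext <;> simp

end Calculus

variable {k : Type u} [Field k] {G P Y : Over (Spec (CommRingCat.of k))} [GrpObj G]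
  {L : Type u} [Field L] [Algebra k L]

section Level

variable {K : Type u} [Field K] [Algebra k K] [Algebra L K] [IsScalarTower k L K] [FiniteDimensional L K]
  [IsGalois L K]
variable (a : AlgGrp.Action G P) {π : P ⟶ SGA7.pt (K := k) L} (cart : IsPullback a.act (snd G P) π π)
  (b : AlgGrp.Action G Y)

include cart in
/-- An equivariant map out of a torsor is given by the value at a point over a Galois extension. -/
theorem existsUnique_eqv (p : SGA7.pt (K := k) K ⟶ P) (hp : p ≫ π = res L K) (q : SGA7.pt (K := k) K ⟶ Y)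
    (h : ∀ τ : K ≃ₐ[L] K, ∃ g, gal L K τ ≫ p = sm a g p ∧ gal L K τ ≫ q = sm b g q) :
    ∃! e : P ⟶ Y, a.act ≫ e = (G ◁ e) ≫ b.act ∧ p ≫ e = q := by
  have pb := isPullback_orbit a cart p
  rw [hp] at pb
  set c := sm a (fst G (SGA7.pt (K := k) K)) (snd G (SGA7.pt (K := k) K) ≫ p) with hc
  have hcp : lift 1 (𝟙 _) ≫ c = p := by
    rw [hc, comp_sm]
    simp [one_sm]
  obtain ⟨e, he, huniq⟩ := exists_desc pb (sm b (fst G _) (snd G _ ≫ q)) fun {Z} g₁ g₂ τ h12 hs => by
    obtain ⟨g, hg1, hg2⟩ := h τ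
    rw [hc, comp_sm, comp_sm] at h12
    rw [comp_sm, comp_sm]
    have e1 : ∀ {V : Over (Spec (CommRingCat.of k))} (v : SGA7.pt (K := k) K ⟶ V),
        g₂ ≫ snd G _ ≫ v = (g₁ ≫ snd G _) ≫ gal L K τ ≫ v := fun v => by
      rw [reassoc_of% hs]; simp only [Category.assoc]
    have hp2 : g₂ ≫ snd G _ ≫ p = sm a ((g₁ ≫ snd G _) ≫ g) (g₁ ≫ snd G _ ≫ p) := by
      rw [e1 p, hg1, comp_sm]; simp only [Category.assoc]
    have hq2 : g₂ ≫ snd G _ ≫ q = sm b ((g₁ ≫ snd G _) ≫ g) (g₁ ≫ snd G _ ≫ q) := by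
      rw [e1 q, hg2, comp_sm]; simp only [Category.assoc]
    rw [hp2, ← mul_sm] at h12
    rw [hq2, ← mul_sm, ← sm_cancel a cart h12]
  haveI := effectiveEpi_of_isPullback pb
  refine ⟨e, ⟨?_, ?_⟩, ?_⟩
  · haveI := effectiveEpi_of_isPullback ((AlgSt.isPullback_whiskerLeft (G := G) c).paste_vert pb)
    refine cancel_of_effectiveEpi (G ◁ c) ?_
    calc (G ◁ c) ≫ a.act ≫ e = sm a (fst G _) (snd G _ ≫ c) ≫ e := by rw [whiskerLeft_eq_lift, Category.assoc]
      _ = sm b (fst G _) (snd G _ ≫ sm b (fst G _) (snd G _ ≫ q)) := by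
          rw [hc, comp_sm, ← mul_sm, comp_sm b, ← mul_sm]
          have key : ∀ (u : G ⊗ (G ⊗ SGA7.pt (K := k) K) ⟶ G) (v : G ⊗ (G ⊗ SGA7.pt (K := k) K) ⟶ SGA7.pt (K := k) K),
              sm a u (v ≫ p) ≫ e = sm b u (v ≫ q) := by
            intro u v
            have := congrArg (fun m => lift u v ≫ m) he
            simp only [hc] at this
            rw [← Category.assoc, comp_sm, comp_sm] at this
            simpa using this
          simpa only [Category.assoc] using key _ (snd G _ ≫ snd G (SGA7.pt (K := k) K))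
      _ = (G ◁ c) ≫ (G ◁ e) ≫ b.act := by
          rw [← MonoidalCategory.whiskerLeft_comp_assoc, he, whiskerLeft_eq_lift]
  · rw [← hcp, Category.assoc, he, comp_sm]
    simp [one_sm]
  · rintro e' ⟨he', hpe'⟩
    refine huniq e' ?_
    show c ≫ e' = _
    rw [hc, sm_comp a he', Category.assoc, hpe']

end Level

variable {kb : Type u} [Field kb] [Algebra k kb] [Algebra L kb] [IsScalarTower k L kb] [Finite L]
  [Algebra.IsAlgebraic L kb]
variable {σ : kb ≃ₐ[L] kb} (hσ : ∀ x : kb, σ x = x ^ Nat.card L)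
variable (a : AlgGrp.Action G P) {π : P ⟶ SGA7.pt (K := k) L} (cart : IsPullback a.act (snd G P) π π)
  (b : AlgGrp.Action G Y)

include hσ cart in
/-- An equivariant map out of a torsor over a finite field is given by a Frobenius compatible value at a
geometric point. -/
theorem existsUnique_eqv_geom {p : SGA7.pt (K := k) kb ⟶ P} (hp : p ≫ π = res L kb) (hpf : IsFin L p)
    {q : SGA7.pt (K := k) kb ⟶ Y} (hqf : IsFin L q)
    (h : ∃ g, gal L kb σ ≫ p = sm a g p ∧ gal L kb σ ≫ q = sm b g q) :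
    ∃! e : P ⟶ Y, a.act ≫ e = (G ◁ e) ≫ b.act ∧ p ≫ e = q := by
  obtain ⟨K, hK, ⟨p₀, hp₀⟩, ⟨q₀, hq₀⟩⟩ := hpf.common hqf
  haveI : Finite K := Module.finite_of_finite L
  haveI : IsGalois L K := GaloisField.instIsGaloisOfFinite
  letI := Fintype.ofFinite L
  let τ₁ : K ≃ₐ[L] K := FiniteField.frobeniusAlgEquivOfAlgebraic L K
  have hτ₁ : ∀ x : K, ((τ₁ x : K) : kb) = σ (x : kb) := fun x => by
    rw [hσ, Nat.card_eq_fintype_card]
    rfl
  have hp₀π : p₀ ≫ π = res L K := by
    refine cancel_jmap K ?_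
    rw [← Category.assoc, hp₀, hp, jmap_res]
  have h₁ : ∃ g, gal L K τ₁ ≫ p₀ = sm a g p₀ ∧ gal L K τ₁ ≫ q₀ = sm b g q₀ := by
    obtain ⟨g₀, hg₀⟩ := exists_sm a cart (x := gal L K τ₁ ≫ p₀) (y := p₀)
      (by rw [Category.assoc, hp₀π, gal_res])
    obtain ⟨g, hg, hgq⟩ := h
    have e1 : jmap K ≫ g₀ = g := by
      refine sm_cancel a cart (x := p) ?_
      rw [← hg, ← hp₀, ← comp_sm, hg₀, ← Category.assoc, ← gal_jmap K σ τ₁ hτ₁, Category.assoc]
    refine ⟨g₀, hg₀.symm, cancel_jmap K ?_⟩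
    rw [← Category.assoc, ← gal_jmap K σ τ₁ hτ₁, Category.assoc, hq₀, hgq, comp_sm, e1, hq₀]
  have hall : ∀ τ : K ≃ₐ[L] K, ∃ g, gal L K τ ≫ p₀ = sm a g p₀ ∧ gal L K τ ≫ q₀ = sm b g q₀ := by
    intro τ
    obtain ⟨n, hn⟩ := (FiniteField.bijective_frobeniusAlgEquivOfAlgebraic_pow L K).2 τ
    simp only at hn
    rw [← hn]
    generalize (n : ℕ) = m
    induction m with
    | zero => exact ⟨1, by rw [pow_zero, gal_one, Category.id_comp, one_sm],
        by rw [pow_zero, gal_one, Category.id_comp, one_sm]⟩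
    | succ m ih =>
      obtain ⟨g, hg, hgq⟩ := ih
      obtain ⟨g', hg', hgq'⟩ := h₁
      refine ⟨(gal L K τ₁ ≫ g) * g', ?_, ?_⟩
      · rw [pow_succ', gal_mul, Category.assoc, hg, comp_sm, hg', ← mul_sm]
      · rw [pow_succ', gal_mul, Category.assoc, hgq, comp_sm, hgq', ← mul_sm]
  obtain ⟨e, ⟨he, hpe⟩, huniq⟩ := existsUnique_eqv a cart b p₀ hp₀π q₀ hall
  refine ⟨e, ⟨he, by rw [← hp₀, Category.assoc, hpe, hq₀]⟩, fun e' he' => huniq e' ⟨he'.1, ?_⟩⟩
  refine cancel_jmap K ?_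
  rw [← Category.assoc, hp₀, he'.2, hq₀]

include hσ cart in
/-- Equivariant maps agreeing at a geometric point are equal. -/
theorem eqv_ext {p : SGA7.pt (K := k) kb ⟶ P} (hp : p ≫ π = res L kb) (hpf : IsFin L p)
    {e e' : P ⟶ Y} (he : a.act ≫ e = (G ◁ e) ≫ b.act) (he' : a.act ≫ e' = (G ◁ e') ≫ b.act)
    (h : p ≫ e = p ≫ e') : e = e' := by
  obtain ⟨g, hg⟩ := exists_sm a cart (x := gal L kb σ ≫ p) (y := p) (by rw [Category.assoc, hp, gal_res])
  refine (existsUnique_eqv_geom hσ a cart b hp hpf (hpf.comp e)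
    ⟨g, hg.symm, ?_⟩).unique ⟨he, rfl⟩ ⟨he', h.symm⟩
  rw [← Category.assoc, ← hg, sm_comp a he]

omit [Algebra.IsAlgebraic L kb] in
/-- A locally trivial torsor over a finite field has a geometric point of finite level. -/
theorem exists_geom_point [Algebra.IsAlgebraic L kb] [IsAlgClosed kb] (π : P ⟶ SGA7.pt (K := k) L)
    (hloc : NonAbH1.IsLocallyTrivialFor Scheme.etalePrecoverage (Over.mk π.left : Over (Spec (CommRingCat.of L)))) :
    ∃ p : SGA7.pt (K := k) kb ⟶ P, p ≫ π = res L kb ∧ IsFin L p := by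
  obtain ⟨R, hR, hsec⟩ := hloc
  obtain ⟨I, U, f, rfl⟩ := R.exists_eq_ofArrows
  rw [Scheme.etalePrecoverage, Scheme.ofArrows_mem_precoverage_iff] at hR
  obtain ⟨i, hi⟩ := hR.1 (IsLocalRing.closedPoint L)
  haveI := hR.2 i
  obtain ⟨s, hs⟩ := hsec (f i) (Presieve.ofArrows.mk i)
  let y : Spec (CommRingCat.of kb) ⟶ Spec (CommRingCat.of L) := (res (k := k) L kb).left
  obtain ⟨x, hx⟩ := GrothLib.SchPoints.exists_lift (f i) y (by
    haveI : Subsingleton ↥(Spec (CommRingCat.of L)) := inferInstanceAs (Subsingleton (PrimeSpectrum L))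
    convert hi using 1)
  haveI : Finite k := Finite.of_injective _ (algebraMap k L).injective
  haveI : Module.Finite k L := Module.Finite.of_finite
  haveI : LocallyOfFiniteType (SGA7.pt (K := k) L).hom := by
    show LocallyOfFiniteType (Spec.map (CommRingCat.ofHom (algebraMap k L)))
    rw [HasRingHomProperty.Spec_iff (P := @LocallyOfFiniteType)]
    exact RingHom.finiteType_algebraMap.mpr inferInstance
  let Uk : Over (Spec (CommRingCat.of k)) := Over.mk (f i ≫ (SGA7.pt (K := k) L).hom)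
  haveI : LocallyOfFiniteType Uk.hom := inferInstanceAs (LocallyOfFiniteType (f i ≫ (SGA7.pt (K := k) L).hom))
  let x' : SGA7.pt (K := k) kb ⟶ Uk := Over.homMk x (by
    show x ≫ f i ≫ _ = _
    rw [reassoc_of% hx]
    exact Over.w (res (k := k) L kb))
  let s' : Uk ⟶ P := Over.homMk s (by
    show s ≫ P.hom = f i ≫ _
    rw [← Over.w π, ← Category.assoc]
    exact congrArg (· ≫ _) hs)
  refine ⟨x' ≫ s', Over.OverMorphism.ext ?_, (isFin_of_lft x').comp s'⟩
  show (x ≫ s) ≫ π.left = _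
  rw [Category.assoc]
  exact (congrArg (x ≫ ·) hs).trans hx

end GrothLib.FrobTors13
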