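import Groth.Agent.Lib.FrobTors13.Lang
import Groth.Agent.Lib.FrobTors13.Torsor
import Groth.Prelude.Def_NonAbH2
import Mathlib.AlgebraicGeometry.Sites.Fpqc

/-! Exact sequences of groups over a finite field with connected kernel, on geometric points. -/

set_option backward.isDefEq.respectTransparency false
set_option backward.isDefEq.respectTransparency.types false

universe u

open CategoryTheory CategoryTheory.Limits AlgebraicGeometry MonoidalCategory CartesianMonoidalCategory MonObj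

namespace GrothLib.FrobTors13

variable {k : Type u} [Field k] {A B C : Over (Spec (CommRingCat.of k))} [GrpObj A] [GrpObj B] [GrpObj C]
  {i : A ⟶ B} {π : B ⟶ C}

theorem existsUnique_ker (hex : NonAbH1.IsExactSeq Scheme.fppfPrecoverage i π) {T : Over (Spec (CommRingCat.of k))}
    (u : T ⟶ B) (hu : u ≫ π = 1) : ∃! w : T ⟶ A, w ≫ i = u := by
  obtain ⟨hi, hπ, -, cart, -⟩ := hex
  have hone : (1 : T ⟶ B) ≫ π = u ≫ π := by
    rw [hu]
    exact MonObj.one_comp π
  have key : ∀ m : T ⟶ B ⊗ A, m ≫ fst B A = 1 → m ≫ ((B ◁ i) ≫ μ[B]) = (m ≫ snd B A) ≫ i := fun m h1 => by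
    rw [← Category.assoc, show m ≫ (B ◁ i) = lift 1 ((m ≫ snd B A) ≫ i) by
      apply CartesianMonoidalCategory.hom_ext <;> simp [h1]]
    rw [← Hom.mul_def, _root_.one_mul]
  refine ⟨cart.lift 1 u hone ≫ snd B A, ?_, fun w hw => ?_⟩
  · show (cart.lift 1 u hone ≫ snd B A) ≫ i = u
    rw [← key _ (cart.lift_fst _ _ _), cart.lift_snd]
  · have : cart.lift 1 u hone = lift 1 w := by
      refine cart.hom_ext ?_ ?_
      · rw [cart.lift_fst, lift_fst]
      · rw [cart.lift_snd, key _ (lift_fst _ _), lift_snd, hw]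
    rw [this, lift_snd]

theorem ker_inj (hex : NonAbH1.IsExactSeq Scheme.fppfPrecoverage i π) {T : Over (Spec (CommRingCat.of k))}
    {w w' : T ⟶ A} (h : w ≫ i = w' ≫ i) : w = w' := by
  refine (existsUnique_ker hex (w' ≫ i) ?_).unique h rfl
  rw [Category.assoc, hex.2.2.1]
  exact MonObj.comp_one _

theorem exists_lift_pt (hex : NonAbH1.IsExactSeq Scheme.fppfPrecoverage i π) [LocallyOfFiniteType B.hom]
    {kb : Type u} [Field kb] [Algebra k kb] [IsAlgClosed kb] (c : SGA7.pt (K := k) kb ⟶ C) :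
    ∃ b : SGA7.pt (K := k) kb ⟶ B, b ≫ π = c := by
  obtain ⟨R, hR, hsec⟩ := hex.2.2.2.2
  obtain ⟨I, U, f, rfl⟩ := R.exists_eq_ofArrows
  rw [Scheme.fppfPrecoverage, Scheme.ofArrows_mem_precoverage_iff] at hR
  obtain ⟨j, v, hv⟩ := hR.1 (c.left.base (IsLocalRing.closedPoint kb))
  obtain ⟨s, hs⟩ := hsec (f j) (Presieve.ofArrows.mk j)
  haveI : LocallyOfFiniteType π.left := by
    haveI : LocallyOfFiniteType (π.left ≫ C.hom) := by rw [Over.w]; infer_instance
    exact locallyOfFiniteType_of_comp _ C.hom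
  obtain ⟨b, hb⟩ := GrothLib.SchPoints.exists_lift π.left c.left ⟨s.base v, by
    exact ((Scheme.Hom.comp_apply s π.left v).symm.trans (congrArg (fun m : U j ⟶ C.left => m.base v) hs)).trans hv⟩
  exact ⟨Over.homMk b (by rw [← Over.w π, reassoc_of% hb, Over.w c]), Over.OverMorphism.ext hb⟩

variable [Finite k] {kb : Type u} [Field kb] [Algebra k kb] [IsAlgClosed kb] [Algebra.IsAlgebraic k kb]
  {σ : kb ≃ₐ[k] kb}

/-- Lang's theorem for the conjugates of a connected kernel. -/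
theorem exists_conj_lang (hσ : ∀ c : kb, σ c = c ^ Nat.card k)
    (hex : NonAbH1.IsExactSeq Scheme.fppfPrecoverage i π)
    [Smooth A.hom] [QuasiCompact A.hom] [ConnectedSpace A.left] [LocallyOfFiniteType B.hom]
    (g : SGA7.Pts kb B) (a : SGA7.Pts kb A) :
    ∃ (z w : SGA7.Pts kb A), w ≫ i = g * (z ≫ i) * g⁻¹ ∧ a = (σ • z)⁻¹ * w := by
  haveI := hex.1
  haveI := hex.2.1
  obtain ⟨K, hK, ⟨g₀, hg₀⟩, ⟨a₀, ha₀⟩⟩ := (isFin_of_lft (L := k) g).common (isFin_of_lft (L := k) a)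
  let P := SGA7.pt (K := k) K
  let cj : ∀ (b : P ⟶ B), A ⊗ P ⟶ B := fun b => (snd A P ≫ b) * (fst A P ≫ i) * (snd A P ≫ b)⁻¹
  have hc : ∀ b : P ⟶ B, cj b ≫ π = 1 := fun b => by
    show (_ * _ * _) ≫ π = 1
    rw [MonObj.mul_comp, MonObj.mul_comp, GrpObj.inv_comp, Category.assoc (fst A P), hex.2.2.1,
      MonObj.comp_one, _root_.mul_one, mul_inv_cancel]
  let al : ∀ (b : P ⟶ B), A ⊗ P ⟶ A := fun b => (existsUnique_ker hex _ (hc b)).choose
  have hal : ∀ (b : P ⟶ B) {T : Over (Spec (CommRingCat.of k))} (x : T ⟶ A) (t : T ⟶ P),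
      (lift x t ≫ al b) ≫ i = (t ≫ b) * (x ≫ i) * (t ≫ b)⁻¹ := fun b T x t => by
    rw [Category.assoc, show al b ≫ i = cj b from (existsUnique_ker hex _ (hc b)).choose_spec.1]
    simp [cj, MonObj.comp_mul, GrpObj.comp_inv]
  obtain ⟨z, hz⟩ := exists_lang hσ K (al g₀) (al g₀⁻¹)
    (fun x t => ker_inj hex (by
      rw [hal, hal, GrpObj.comp_inv]
      group))
    (fun x t => ker_inj hex (by
      rw [hal, hal, GrpObj.comp_inv]
      group))
    (fun x y t => ker_inj hex (by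
      rw [hal, MonObj.mul_comp, MonObj.mul_comp, hal, hal]
      group)) a₀
  refine ⟨z, lift z (jmap K) ≫ al g₀, ?_, by rw [← ha₀]; exact hz⟩
  rw [hal, hg₀]

end GrothLib.FrobTors13
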