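import Groth.Agent.Lib.FrobTors13.Build
import Groth.Agent.Lib.FrobTors13.Count
import Groth.Agent.Lib.QuotPts13.Fiber
import Groth.Prelude.Def_StkCnt

/-! The groupoid of points of a quotient stack over a finite field. -/

set_option backward.isDefEq.respectTransparency false
set_option backward.isDefEq.respectTransparency.types false

universe u

open CategoryTheory CategoryTheory.Limits AlgebraicGeometry MonoidalCategory CartesianMonoidalCategory MonObj CategoryTheory.Functor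

namespace GrothLib.FrobTors13

variable {k : Type u} [Field k] {G X : Over (Spec (CommRingCat.of k))} [GrpObj G] {aX : AlgGrp.Action G X}
  {L : Type u} [Field L] [Algebra k L]
  {kb : Type u} [Field kb] [Algebra k kb] [Algebra L kb] [IsScalarTower k L kb]

variable (aX L) in
/-- The fibre of the quotient category over `Spec L`. -/
abbrev Fib : Type (u + 1) := (AlgSt.QuotSt Scheme.etalePrecoverage G aX).p.Fiber (SGA7.pt (K := k) L)

/-- The identification of the base of an object of the fibre. -/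
noncomputable def baseMap (ξ : (Fib aX L)) : ξ.1.P ⟶ SGA7.pt (K := k) L := ξ.1.π ≫ eqToHom ξ.2

theorem cart_baseMap (ξ : (Fib aX L)) : IsPullback ξ.1.act.act (snd G ξ.1.P) (baseMap ξ) (baseMap ξ) :=
  ξ.1.cart.of_iso (Iso.refl _) (Iso.refl _) (Iso.refl _) (eqToIso ξ.2) (by simp) (by simp)
    (by simp [baseMap]) (by simp [baseMap])

variable (kb) in
/-- A geometric point of finite level of an object over the finite field. -/
def IsPt (ξ : (Fib aX L)) (p : SGA7.pt (K := k) kb ⟶ ξ.1.P) : Prop :=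
  p ≫ baseMap ξ = res L kb ∧ IsFin L p

theorem fiber_base {ξ ζ : (Fib aX L)} (f : ξ ⟶ ζ) : f.1.base = eqToHom ξ.2 ≫ eqToHom ζ.2.symm := by
  haveI := f.2
  have := IsHomLift.fac' (AlgSt.QuotSt Scheme.etalePrecoverage G aX).p (𝟙 (SGA7.pt (K := k) L)) f.1
  exact this.trans (by rw [Category.id_comp])

theorem top_baseMap {ξ ζ : (Fib aX L)} (f : ξ ⟶ ζ) : f.1.top ≫ baseMap ζ = baseMap ξ := by
  show f.1.top ≫ ζ.1.π ≫ eqToHom ζ.2 = ξ.1.π ≫ eqToHom ξ.2
  rw [reassoc_of% f.1.cart.w, fiber_base]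
  simp

variable [Finite L] [Algebra.IsAlgebraic L kb]

variable (kb) in
theorem exists_isPt [IsAlgClosed kb] (ξ : (Fib aX L)) : ∃ p, IsPt kb ξ p := by
  obtain ⟨⟨B, P, act, π, cart, hloc, φ, eqv⟩, hB⟩ := ξ
  change B = _ at hB
  subst hB
  obtain ⟨p, hp, hpf⟩ := exists_geom_point (kb := kb) π hloc
  exact ⟨p, (congrArg (p ≫ ·) (Category.comp_id π)).trans hp, hpf⟩

variable {σ : kb ≃ₐ[L] kb} (hσ : ∀ x : kb, σ x = x ^ Nat.card L)

omit [Finite L] [Algebra.IsAlgebraic L kb] in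
theorem exists_frobenius (σ : kb ≃ₐ[L] kb) {ξ : (Fib aX L)} {p : SGA7.pt (K := k) kb ⟶ ξ.1.P} (hp : IsPt kb ξ p) :
    ∃ g, gal L kb σ ≫ p = sm ξ.1.act g p ∧ gal L kb σ ≫ p ≫ ξ.1.φ = sm aX g (p ≫ ξ.1.φ) := by
  obtain ⟨g, hg⟩ := exists_sm ξ.1.act (cart_baseMap ξ) (x := gal L kb σ ≫ p) (y := p)
    (by rw [Category.assoc, hp.1, gal_res])
  refine ⟨g, hg.symm, ?_⟩
  rw [← Category.assoc, ← hg, sm_comp ξ.1.act ξ.1.eqv]

variable [LocallyOfFiniteType G.hom]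

include hσ in
/-- The morphisms of the fibre, through points. -/
theorem exists_homEquiv {ξ ζ : (Fib aX L)} {p : SGA7.pt (K := k) kb ⟶ ξ.1.P} (hp : IsPt kb ξ p)
    {q : SGA7.pt (K := k) kb ⟶ ζ.1.P} (hq : IsPt kb ζ q) {g g' : SGA7.pt (K := k) kb ⟶ G}
    (hg : gal L kb σ ≫ p = sm ξ.1.act g p) (hg' : gal L kb σ ≫ q = sm ζ.1.act g' q) :
    Nonempty ((ξ ⟶ ζ) ≃
      {h : SGA7.pt (K := k) kb ⟶ G // g * h = (gal L kb σ ≫ h) * g' ∧ sm aX h (q ≫ ζ.1.φ) = p ≫ ξ.1.φ}) := by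
  have hf : ∀ f : ξ ⟶ ζ, ∃ h, sm ζ.1.act h q = p ≫ f.1.top ∧
      g * h = (gal L kb σ ≫ h) * g' ∧ sm aX h (q ≫ ζ.1.φ) = p ≫ ξ.1.φ := by
    intro f
    obtain ⟨h, hh⟩ := exists_sm ζ.1.act (cart_baseMap ζ) (x := p ≫ f.1.top) (y := q)
      (by rw [Category.assoc, top_baseMap, hp.1, hq.1])
    refine ⟨h, hh, sm_cancel ζ.1.act (cart_baseMap ζ) (x := q) ?_, ?_⟩
    · rw [mul_sm, hh, ← sm_comp ξ.1.act f.1.eqv, ← hg, Category.assoc, ← hh, comp_sm, hg', mul_sm]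
    · rw [← sm_comp ζ.1.act ζ.1.eqv, hh, Category.assoc, f.1.wφ]
  choose F hF1 hF2 hF3 using hf
  refine ⟨Equiv.ofBijective (fun f => ⟨F f, hF2 f, hF3 f⟩) ⟨fun f f' e => ?_, fun ⟨h, h1, h2⟩ => ?_⟩⟩
  · have e' : F f = F f' := congrArg Subtype.val e
    refine Subtype.ext (AlgSt.QuotObj.hom_ext ((fiber_base f).trans (fiber_base f').symm) ?_)
    exact eqv_ext hσ ξ.1.act (cart_baseMap ξ) ζ.1.act hp.1 hp.2 f.1.eqv f'.1.eqv
      ((hF1 f).symm.trans ((congrArg (fun h => sm ζ.1.act h q) e').trans (hF1 f')))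
  · -- the morphism attached to `h`
    have key : ∀ (h₀ : SGA7.pt (K := k) kb ⟶ G) {A B : (Fib aX L)} {a : SGA7.pt (K := k) kb ⟶ A.1.P}
        (_ : IsPt kb A a) {b : SGA7.pt (K := k) kb ⟶ B.1.P} (_ : IsPt kb B b)
        {u v : SGA7.pt (K := k) kb ⟶ G} (_ : gal L kb σ ≫ a = sm A.1.act u a)
        (_ : gal L kb σ ≫ b = sm B.1.act v b) (_ : u * h₀ = (gal L kb σ ≫ h₀) * v),
        ∃ e : A.1.P ⟶ B.1.P, A.1.act.act ≫ e = (G ◁ e) ≫ B.1.act.act ∧ a ≫ e = sm B.1.act h₀ b := by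
      intro h₀ A B a ha b hb u v hu hv huv
      refine (existsUnique_eqv_geom hσ A.1.act (cart_baseMap A) B.1.act ha.1 ha.2 ?_ ⟨u, hu, ?_⟩).exists
      · obtain ⟨K, hK, ⟨h', hh'⟩, ⟨b', hb'⟩⟩ := (isFin_of_lft (L := L) h₀).common hb.2
        exact ⟨K, hK, sm B.1.act h' b', by rw [comp_sm, hh', hb']⟩
      · rw [comp_sm, hv, ← mul_sm, ← huv, mul_sm]
    obtain ⟨e, he, hpe⟩ := key h hp hq hg hg' h1
    obtain ⟨e', he', hqe⟩ := key h⁻¹ hq hp hg' hg (by
      rw [GrpObj.comp_inv]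
      exact eq_inv_mul_of_mul_eq (by rw [← _root_.mul_assoc, ← h1, mul_inv_cancel_right]))
    have hee : e ≫ e' = 𝟙 ξ.1.P := by
      refine eqv_ext hσ ξ.1.act (cart_baseMap ξ) ξ.1.act hp.1 hp.2 ?_ (by simp) ?_
      · rw [reassoc_of% he, he', MonoidalCategory.whiskerLeft_comp_assoc]
      · rw [← Category.assoc, hpe, sm_comp ζ.1.act he', hqe, ← mul_sm, mul_inv_cancel, one_sm, Category.comp_id]
    have hee' : e' ≫ e = 𝟙 ζ.1.P := by
      refine eqv_ext hσ ζ.1.act (cart_baseMap ζ) ζ.1.act hq.1 hq.2 ?_ (by simp) ?_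
      · rw [reassoc_of% he', he, MonoidalCategory.whiskerLeft_comp_assoc]
      · rw [← Category.assoc, hqe, sm_comp ξ.1.act he, hpe, ← mul_sm, inv_mul_cancel, one_sm, Category.comp_id]
    haveI : IsIso e := ⟨e', hee, hee'⟩
    have hφ : e ≫ ζ.1.φ = ξ.1.φ := by
      refine eqv_ext hσ ξ.1.act (cart_baseMap ξ) aX hp.1 hp.2 ?_ ξ.1.eqv ?_
      · rw [reassoc_of% he, ζ.1.eqv, MonoidalCategory.whiskerLeft_comp_assoc]
      · rw [← Category.assoc, hpe, sm_comp ζ.1.act ζ.1.eqv, h2]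
    have hπ : e ≫ baseMap ζ = baseMap ξ := by
      let tT : AlgGrp.Action G (SGA7.pt (K := k) L) :=
        ⟨snd G _, by rw [whiskerRight_snd, leftUnitor_hom], by
          apply Eq.trans (whiskerRight_snd _ _)
          simp⟩
      have heq : ∀ A : (Fib aX L), A.1.act.act ≫ baseMap A = (G ◁ baseMap A) ≫ tT.act := fun A => by
        rw [(cart_baseMap A).w]
        exact (whiskerLeft_snd _ _).symm
      refine eqv_ext hσ ξ.1.act (cart_baseMap ξ) tT hp.1 hp.2 ?_ (heq ξ) ?_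
      · rw [reassoc_of% he, heq ζ, MonoidalCategory.whiskerLeft_comp_assoc]
      · rw [← Category.assoc, hpe, sm_π ζ.1.act (cart_baseMap ζ), hq.1, hp.1]
    let f₀ : ξ.1 ⟶ ζ.1 :=
      { base := eqToHom ξ.2 ≫ eqToHom ζ.2.symm
        top := e
        eqv := he
        cart := IsPullback.of_horiz_isIso ⟨by
          rw [← cancel_mono (eqToHom ζ.2)]
          show (e ≫ ζ.1.π) ≫ _ = (ξ.1.π ≫ _) ≫ _
          rw [Category.assoc]
          refine hπ.trans ?_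
          simp [baseMap]⟩
        wφ := hφ }
    have hl : IsHomLift (AlgSt.QuotSt Scheme.etalePrecoverage G aX).p (𝟙 (SGA7.pt (K := k) L)) f₀ :=
      IsHomLift.of_fac' _ _ _ ξ.2 ζ.2 (by
        show eqToHom ξ.2 ≫ eqToHom ζ.2.symm = _
        simp)
    refine ⟨⟨f₀, hl⟩, Subtype.ext (sm_cancel ζ.1.act (cart_baseMap ζ) (x := q) ?_)⟩
    rw [hF1]
    exact hpe

variable [IsAffineHom G.hom] [LocallyOfFiniteType X.hom] [IsAlgClosed kb]

include hσ in
/-- Every pair of a group element and a compatible point comes from an object. -/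
theorem exists_obj (g : SGA7.pt (K := k) kb ⟶ G) (x : SGA7.pt (K := k) kb ⟶ X)
    (h : gal L kb σ ≫ x = sm aX g x) :
    ∃ (ξ : (Fib aX L)) (p : SGA7.pt (K := k) kb ⟶ ξ.1.P),
      IsPt kb ξ p ∧ gal L kb σ ≫ p = sm ξ.1.act g p ∧ p ≫ ξ.1.φ = x := by
  obtain ⟨P, act, π, cart, p, hloc, hp, hpf, hg⟩ := exists_torsor hσ g
  obtain ⟨φ, ⟨heqv, hφ⟩, -⟩ := existsUnique_eqv_geom hσ act cart aX hp hpf (isFin_of_lft x) ⟨g, hg, h⟩
  exact ⟨⟨{ base := SGA7.pt (K := k) L, P := P, act := act, π := π, cart := cart, loc := hloc, φ := φ,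
            eqv := heqv }, rfl⟩, p, ⟨(congrArg (p ≫ ·) (Category.comp_id π)).trans hp, hpf⟩, hg, hφ⟩

variable (aX σ) in
/-- The points of the groupoid over the finite field. -/
def Ob : Type u :=
  {o : (SGA7.pt (K := k) kb ⟶ G) × (SGA7.pt (K := k) kb ⟶ X) // gal L kb σ ≫ o.2 = sm aX o.1 o.2}

noncomputable instance obAction : MulAction (SGA7.pt (K := k) kb ⟶ G) (Ob aX σ) where
  smul h o := ⟨((gal L kb σ ≫ h) * o.1.1 * h⁻¹, sm aX h o.1.2), by
    show gal L kb σ ≫ sm aX h o.1.2 = sm aX ((gal L kb σ ≫ h) * o.1.1 * h⁻¹) (sm aX h o.1.2)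
    rw [comp_sm, o.2, mul_sm _ _ h⁻¹, sm_inv_sm, mul_sm]⟩
  one_smul o := by
    refine Subtype.ext (Prod.ext ?_ (one_sm aX _))
    show (gal L kb σ ≫ 1) * o.1.1 * 1⁻¹ = o.1.1
    rw [MonObj.comp_one, _root_.one_mul, inv_one, _root_.mul_one]
  mul_smul h h' o := by
    refine Subtype.ext (Prod.ext ?_ (mul_sm aX h h' _))
    show (gal L kb σ ≫ (h * h')) * o.1.1 * (h * h')⁻¹ =
      (gal L kb σ ≫ h) * ((gal L kb σ ≫ h') * o.1.1 * h'⁻¹) * h⁻¹
    rw [MonObj.comp_mul, _root_.mul_inv_rev]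
    simp only [_root_.mul_assoc]

theorem smul_eq_iff (h : SGA7.pt (K := k) kb ⟶ G) (o o' : Ob aX σ) :
    h • o = o' ↔ o'.1.1 * h = (gal L kb σ ≫ h) * o.1.1 ∧ sm aX h o.1.2 = o'.1.2 := by
  refine ⟨fun e => ⟨?_, congrArg (fun z => z.1.2) e⟩, fun ⟨e1, e2⟩ => Subtype.ext (Prod.ext ?_ e2)⟩
  · rw [← e]
    show (gal L kb σ ≫ h) * o.1.1 * h⁻¹ * h = _
    rw [inv_mul_cancel_right]
  · show (gal L kb σ ≫ h) * o.1.1 * h⁻¹ = o'.1.1
    rw [← e1, mul_inv_cancel_right]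

include hσ in
/-- The classes of the groupoid are the orbits, with the stabilizers as automorphism groups. -/
theorem exists_classEquiv :
    ∃ e : Quotient (MulAction.orbitRel (SGA7.pt (K := k) kb ⟶ G) (Ob aX σ)) ≃ StkCnt.IsoCl (Fib aX L),
      ∀ o, StkCnt.autCard (Fib aX L) (e o) =
        Nat.card (MulAction.stabilizer (SGA7.pt (K := k) kb ⟶ G) o.out) := by
  choose ξ p hp hg hx using fun o : Ob aX σ => exists_obj hσ o.1.1 o.1.2 o.2
  have hom : ∀ o o', Nonempty ((ξ o ⟶ ξ o') ≃ {h : SGA7.pt (K := k) kb ⟶ G // h • o' = o}) := fun o o' => by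
    obtain ⟨e⟩ := exists_homEquiv hσ (hp o) (hp o') (hg o) (hg o')
    refine ⟨e.trans (Equiv.subtypeEquivRight fun h => ?_)⟩
    rw [smul_eq_iff, hx, hx]
  have iso : ∀ {A B : (Fib aX L)} (f : A ⟶ B), IsIso f := fun f => GrothLib.QuotPts13.isIso_fiber f
  let e : Quotient (MulAction.orbitRel (SGA7.pt (K := k) kb ⟶ G) (Ob aX σ)) → StkCnt.IsoCl (Fib aX L) :=
    Quotient.map ξ (by
      rintro o o' ⟨h, hh⟩
      obtain ⟨E⟩ := hom o o'
      haveI := iso (E.symm ⟨h, hh⟩)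
      exact ⟨asIso (E.symm ⟨h, hh⟩)⟩)
  have he : Function.Bijective e := by
    constructor
    · intro q q'
      induction q, q' using Quotient.inductionOn₂ with
      | h o o' =>
        intro h
        obtain ⟨i⟩ : Nonempty (ξ o ≅ ξ o') := Quotient.exact h
        obtain ⟨E⟩ := hom o o'
        exact Quotient.sound ⟨(E i.hom).1, (E i.hom).2⟩
    · intro c
      induction c using Quotient.inductionOn with
      | h A =>
        obtain ⟨a, ha⟩ := exists_isPt kb A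
        obtain ⟨g, hga, hgx⟩ := exists_frobenius σ ha
        let o : Ob aX σ := ⟨(g, a ≫ A.1.φ), hgx⟩
        obtain ⟨E⟩ := exists_homEquiv hσ (hp o) ha (hg o) hga
        let h1 : {h : SGA7.pt (K := k) kb ⟶ G //
            o.1.1 * h = (gal L kb σ ≫ h) * g ∧ sm aX h (a ≫ A.1.φ) = p o ≫ (ξ o).1.φ} :=
          ⟨1, by rw [MonObj.comp_one, _root_.mul_one, _root_.one_mul], by rw [one_sm, hx]⟩
        haveI := iso (E.symm h1)
        exact ⟨⟦o⟧, Quotient.sound ⟨asIso (E.symm h1)⟩⟩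
  refine ⟨Equiv.ofBijective e he, fun q => ?_⟩
  obtain ⟨E⟩ := hom q.out q.out
  conv_lhs => rw [← Quotient.out_eq q]
  show Nat.card (Aut (ξ q.out)) = _
  refine (Nat.card_congr ?_).trans (Nat.card_congr E)
  exact Equiv.ofBijective (fun f => f.hom)
    ⟨fun f f' h => Iso.ext h, fun f => haveI := iso f; ⟨asIso f, rfl⟩⟩

include hσ in
/-- The point count as a sum over orbits. -/
theorem count_eq (hfin : StkCnt.IsEssFinite (Fib aX L))
    [Fintype (Quotient (MulAction.orbitRel (SGA7.pt (K := k) kb ⟶ G) (Ob aX σ)))] :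
    StkCnt.count (Fib aX L) hfin = ∑ q : Quotient (MulAction.orbitRel (SGA7.pt (K := k) kb ⟶ G) (Ob aX σ)),
      ((Nat.card (MulAction.stabilizer (SGA7.pt (K := k) kb ⟶ G) q.out) : ℚ))⁻¹ := by
  obtain ⟨e, he⟩ := exists_classEquiv (aX := aX) hσ
  letI : Fintype (StkCnt.IsoCl (Fib aX L)) := Fintype.ofEquiv _ e
  rw [StkCnt.count_eq_sum, ← e.sum_comp]
  exact Finset.sum_congr rfl fun q _ => by rw [he]

end GrothLib.FrobTors13
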