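import Groth.Agent.Lib.GalForms21.Descent
import Groth.Prelude.Def_SGA7a
import Mathlib.CategoryTheory.Limits.Preserves.Shapes.Pullbacks
import Mathlib.CategoryTheory.Limits.Constructions.Over.Connected

/-! Descent of morphisms along a finite Galois extension, relative to a base field. -/

set_option backward.isDefEq.respectTransparency false

universe u

open CategoryTheory CategoryTheory.Limits AlgebraicGeometry

namespace GrothLib.FrobTors13

variable {k : Type u} [Field k]

/-- The morphism of points defined by a homomorphism of extensions. -/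
noncomputable def ptMap {L K : Type u} [Field L] [Field K] [Algebra k L] [Algebra k K] (f : L →ₐ[k] K) :
    SGA7.pt (K := k) K ⟶ SGA7.pt (K := k) L :=
  Over.homMk (Spec.map (CommRingCat.ofHom f.toRingHom)) (by
    show Spec.map _ ≫ Spec.map _ = Spec.map _
    rw [← Spec.map_comp]
    congr 1
    ext x
    exact f.commutes x)

theorem ptMap_left {L K : Type u} [Field L] [Field K] [Algebra k L] [Algebra k K] (f : L →ₐ[k] K) :
    (ptMap f).left = Spec.map (CommRingCat.ofHom f.toRingHom) := rfl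

theorem ptMap_comp {L K M : Type u} [Field L] [Field K] [Field M] [Algebra k L] [Algebra k K] [Algebra k M]
    (f : L →ₐ[k] K) (g : K →ₐ[k] M) : ptMap g ≫ ptMap f = ptMap (g.comp f) := by
  ext1
  show Spec.map _ ≫ Spec.map _ = Spec.map _
  rw [← Spec.map_comp]
  rfl

theorem ptMap_id {L : Type u} [Field L] [Algebra k L] : ptMap (AlgHom.id k L) = 𝟙 (SGA7.pt (K := k) L) := by
  ext1
  show Spec.map _ = _
  exact Spec.map_id _

theorem specAut_eq_ptMap {K : Type u} [Field K] [Algebra k K] (σ : K ≃ₐ[k] K) :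
    SGA7.specAut σ = ptMap (σ : K →ₐ[k] K) := rfl

instance flat_ptMap {L K : Type u} [Field L] [Field K] [Algebra k L] [Algebra k K] (f : L →ₐ[k] K) :
    Flat (ptMap f).left := by
  rw [ptMap_left, HasRingHomProperty.Spec_iff (P := @Flat)]
  letI := f.toRingHom.toAlgebra
  exact RingHom.flat_algebraMap_iff.mpr inferInstance

instance surjective_ptMap {L K : Type u} [Field L] [Field K] [Algebra k L] [Algebra k K] (f : L →ₐ[k] K) :
    Surjective (ptMap f).left :=
  ⟨fun _ => ⟨(⊥ : PrimeSpectrum K), (inferInstance : Subsingleton (PrimeSpectrum L)).elim _ _⟩⟩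

instance affine_ptMap {L K : Type u} [Field L] [Field K] [Algebra k L] [Algebra k K] (f : L →ₐ[k] K) :
    IsAffineHom (ptMap f).left := by
  haveI : IsAffine (SGA7.pt (K := k) K).left := inferInstanceAs (IsAffine (Spec (CommRingCat.of K)))
  haveI : IsAffine (SGA7.pt (K := k) L).left := inferInstanceAs (IsAffine (Spec (CommRingCat.of L)))
  infer_instance

/-- A base change of a morphism of `pt`s is an epimorphism of schemes. -/
theorem effectiveEpi_of_isPullback {W' W T' T : Over (Spec (CommRingCat.of k))} {c : W' ⟶ W} {s : W' ⟶ T'}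
    {π : W ⟶ T} {r : T' ⟶ T} (pb : IsPullback c s π r) [Flat r.left] [Surjective r.left]
    [QuasiCompact r.left] : EffectiveEpi c.left := by
  have pb' := (pb.map (Over.forget _)).flip
  haveI : Flat c.left := MorphismProperty.of_isPullback pb' ‹Flat r.left›
  haveI : Surjective c.left := MorphismProperty.of_isPullback pb' ‹Surjective r.left›
  haveI : QuasiCompact c.left := MorphismProperty.of_isPullback pb' ‹QuasiCompact r.left›
  infer_instance

theorem cancel_of_effectiveEpi {W' W Y : Over (Spec (CommRingCat.of k))} (c : W' ⟶ W) [EffectiveEpi c.left]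
    {e e' : W ⟶ Y} (h : c ≫ e = c ≫ e') : e = e' := by
  ext1
  rw [← cancel_epi c.left]
  exact congrArg CommaMorphism.left h

variable (L K : Type u) [Field L] [Field K] [Algebra k L] [Algebra k K] [Algebra L K] [IsScalarTower k L K]

/-- `Spec K ⟶ Spec L` over `k`. -/
noncomputable abbrev res : SGA7.pt (K := k) K ⟶ SGA7.pt (K := k) L :=
  ptMap (IsScalarTower.toAlgHom k L K)

/-- `Spec τ` over `k` for an `L`-automorphism. -/
noncomputable abbrev gal (τ : K ≃ₐ[L] K) : SGA7.pt (K := k) K ⟶ SGA7.pt (K := k) K :=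
  SGA7.specAut (τ.restrictScalars k)

theorem gal_left (τ : K ≃ₐ[L] K) : (gal (k := k) L K τ).left = GalTw.specMap K τ := rfl

theorem gal_mul (σ τ : K ≃ₐ[L] K) : gal (k := k) L K (σ * τ) = gal L K σ ≫ gal L K τ :=
  GalTw.specAut_mul K (σ.restrictScalars k) (τ.restrictScalars k)

theorem gal_one : gal (k := k) L K 1 = 𝟙 _ :=
  GalTw.specAut_one K

theorem gal_res (τ : K ≃ₐ[L] K) : gal (k := k) L K τ ≫ res L K = res L K := by
  ext1
  show Spec.map (CommRingCat.ofHom ((τ : K →+* K))) ≫
    Spec.map (CommRingCat.ofHom ((IsScalarTower.toAlgHom k L K).toRingHom)) =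
    Spec.map (CommRingCat.ofHom ((IsScalarTower.toAlgHom k L K).toRingHom))
  rw [← Spec.map_comp, ← CommRingCat.ofHom_comp]
  exact congrArg (fun g => Spec.map (CommRingCat.ofHom g)) (RingHom.ext fun x => τ.commutes x)

variable {L K} [FiniteDimensional L K] [IsGalois L K]

/-- Galois descent of morphisms along a pullback of `Spec K ⟶ Spec L`. -/
theorem exists_desc {W' W Y : Over (Spec (CommRingCat.of k))} {c : W' ⟶ W} {s : W' ⟶ SGA7.pt (K := k) K}
    {π : W ⟶ SGA7.pt (K := k) L} (pb : IsPullback c s π (res L K)) (m : W' ⟶ Y)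
    (hinv : ∀ {Z : Over (Spec (CommRingCat.of k))} (g₁ g₂ : Z ⟶ W') (τ : K ≃ₐ[L] K),
      g₁ ≫ c = g₂ ≫ c → g₂ ≫ s = g₁ ≫ s ≫ gal L K τ → g₁ ≫ m = g₂ ≫ m) :
    ∃! e : W ⟶ Y, c ≫ e = m := by
  haveI := effectiveEpi_of_isPullback pb
  have key : ∀ {Z : Scheme.{u}} (g₁ g₂ : Z ⟶ W'.left), g₁ ≫ c.left = g₂ ≫ c.left →
      g₁ ≫ m.left = g₂ ≫ m.left := by
    intro Z g₁ g₂ h
    have hw : c.left ≫ π.left = s.left ≫ (res (k := k) L K).left := congrArg CommaMorphism.left pb.w
    refine GrothLib.GalForms21.hom_ext_of_galois (k := L) K (g₁ ≫ s.left) (g₂ ≫ s.left) ?_ _ _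
      fun U τ hτ => ?_
    · show (g₁ ≫ s.left) ≫ (res (k := k) L K).left = (g₂ ≫ s.left) ≫ (res (k := k) L K).left
      rw [Category.assoc, Category.assoc, ← hw, reassoc_of% h]
    · have hs : (g₂ ≫ W'.hom) = g₁ ≫ W'.hom := by
        rw [← Over.w c, reassoc_of% h]
      let G₁ : Over.mk (U.ι ≫ g₁ ≫ W'.hom) ⟶ W' := Over.homMk (U.ι ≫ g₁) (by simp)
      let G₂ : Over.mk (U.ι ≫ g₁ ≫ W'.hom) ⟶ W' := Over.homMk (U.ι ≫ g₂) (by simp [hs])
      have := congrArg CommaMorphism.left (hinv G₁ G₂ τ
        (Over.OverMorphism.ext (by simp [G₁, G₂, h]))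
        (Over.OverMorphism.ext (by
          show (U.ι ≫ g₂) ≫ s.left = (U.ι ≫ g₁) ≫ s.left ≫ GalTw.specMap K τ
          simpa only [Category.assoc] using hτ)))
      simpa [G₁, G₂] using this
  have hd := EffectiveEpi.fac c.left m.left fun g₁ g₂ h => key g₁ g₂ h
  set e₀ := EffectiveEpi.desc c.left m.left fun g₁ g₂ h => key g₁ g₂ h with he₀
  refine ⟨Over.homMk e₀ ?_, Over.OverMorphism.ext hd, fun e' h' => cancel_of_effectiveEpi c ?_⟩
  · rw [← cancel_epi c.left, reassoc_of% hd, Over.w m, Over.w c]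
  · exact h'.trans (Over.OverMorphism.ext hd).symm

end GrothLib.FrobTors13
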