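import Groth.Agent.Lib.GalForms21.Twist
import Groth.Agent.Lib.FrobTors13.Galois

/-! Quotients of schemes over a finite Galois extension by semilinear actions. -/

set_option backward.isDefEq.respectTransparency false

universe u

open CategoryTheory CategoryTheory.Limits AlgebraicGeometry GrothLib.GalForms21

namespace GrothLib.FrobTors13

section Comparison

variable {k : Type u} [Field k] {K : Type u} [Field K] [Algebra k K]
  {W : Scheme.{u}} (w : W ⟶ Spec (CommRingCat.of K)) (ρ : (K ≃ₐ[k] K) →* Aut W)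

/-- A semilinear action is free. -/
theorem isFree_of_lift (hρ : ∀ σ, (ρ σ).hom ≫ w = w ≫ GalTw.specMap K σ⁻¹) :
    GrothLib.SGA1Quot21.IsFree ρ := fun Ω _ _ ξ σ h => by
  have h2 := eq_one_of_fixed (ξ ≫ w) σ⁻¹ (by rw [Category.assoc, ← hρ, reassoc_of% h])
  exact inv_eq_one.1 h2

variable [FiniteDimensional k K] [IsGalois k K]

/-- The comparison map to the base change of the quotient is an isomorphism. -/
theorem isIso_comparison (hρ : ∀ σ, (ρ σ).hom ≫ w = w ≫ GalTw.specMap K σ⁻¹) {Yl : Scheme.{u}} {p : W ⟶ Yl}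
    (hp : SGA1.IsQuot ρ p) (q : Yl ⟶ Spec (CommRingCat.of k))
    (hq : p ≫ q = w ≫ (SGA7.pt (K := k) K).hom) :
    IsIso (pullback.lift p (w) hq :
      W ⟶ pullback q (SGA7.pt (K := k) K).hom) := by
  set ψ := (pullback.lift p (w) hq :
      W ⟶ pullback q (SGA7.pt (K := k) K).hom) with hψ
  haveI := GrothLib.SGA1Quot21.etale_of_free hp ((isFree_of_lift w ρ hρ))
  haveI : Etale (ψ ≫ pullback.fst q (SGA7.pt (K := k) K).hom) := by
    rw [hψ, pullback.lift_fst]; infer_instance
  haveI : Etale ψ := Etale.of_comp ψ (pullback.fst q (SGA7.pt (K := k) K).hom)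
  haveI : Mono ψ := by
    have := GrothLib.SGA1Quot21.isIso_sigmaDesc_sections (ι := PUnit.{u + 1}) (pullback.fst ψ ψ)
      (fun _ => pullback.diagonal ψ) (fun _ => pullback.diagonal_fst ψ) (fun Ω _ _ τ => ?_)
      fun Ω _ _ t i j _ => rfl
    · rw [← pullback.isIso_diagonal_iff]
      have e : (Sigma.ι (fun _ : PUnit.{u + 1} => W) PUnit.unit) ≫
          Sigma.desc (fun _ : PUnit.{u + 1} => pullback.diagonal ψ) = pullback.diagonal ψ := Sigma.ι_desc _ _
      rw [← e]
      haveI : IsIso (Sigma.ι (fun _ : PUnit.{u + 1} => W) PUnit.unit) :=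
        (coproductUniqueIso (fun _ : PUnit.{u + 1} => W)).isIso_inv
      infer_instance
    · refine ⟨PUnit.unit, pullback.hom_ext (by simp) ?_⟩
      have h1 := congrArg (fun g => τ ≫ g ≫ pullback.fst q (SGA7.pt (K := k) K).hom) (pullback.condition (f := ψ) (g := ψ))
      have h2 := congrArg (fun g => τ ≫ g ≫ pullback.snd q (SGA7.pt (K := k) K).hom) (pullback.condition (f := ψ) (g := ψ))
      simp only [Category.assoc, hψ, pullback.lift_fst, pullback.lift_snd] at h1 h2
      obtain ⟨σ, hσ⟩ := GrothLib.SGA1Quot21.exists_comp_eq hp (τ ≫ pullback.fst ψ ψ) (τ ≫ pullback.snd ψ ψ)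
        (by simpa only [Category.assoc] using h1)
      have h3 := eq_one_of_fixed ((τ ≫ pullback.fst ψ ψ) ≫ w) σ⁻¹
        (by rw [Category.assoc, ← hρ, ← Category.assoc, hσ]; simpa only [Category.assoc] using h2.symm)
      rw [inv_eq_one.1 h3, GrothLib.SGA1Quot21.rho_one, Category.comp_id] at hσ
      simpa using hσ
  haveI : IsOpenImmersion ψ := IsOpenImmersion.of_flat_of_mono ψ
  refine isIso_of_isOpenImmersion_of_opensRange_eq_top ψ (TopologicalSpace.Opens.ext
    (Set.range_eq_univ.2 fun y => ?_))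
  obtain ⟨x, hx⟩ := GrothLib.SGA1Quot21.surjective hp (pullback.fst q (SGA7.pt (K := k) K).hom y)
  obtain ⟨v, -, hw⟩ := Scheme.Pullback.exists_preimage_pullback
    (f := p) (g := pullback.fst q (SGA7.pt (K := k) K).hom) x y hx
  let τ := GrothLib.FEt21.geomPt _ v
  let P := pullback p (pullback.fst q (SGA7.pt (K := k) K).hom)
  let τ₁ := τ ≫ (pullback.fst p (pullback.fst q (SGA7.pt (K := k) K).hom))
  let τ₂ := τ ≫ (pullback.snd p (pullback.fst q (SGA7.pt (K := k) K).hom))
  obtain ⟨σ, hσ⟩ := exists_specMap_of_eq (k := k) (τ₁ ≫ w)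
    (τ₂ ≫ pullback.snd q (SGA7.pt (K := k) K).hom) (by
      simp only [τ₁, τ₂, Category.assoc, ← hq, ← pullback.condition]
      rw [pullback.condition_assoc])
  have key : (τ₁ ≫ (ρ σ⁻¹).hom) ≫ ψ = τ₂ := by
    refine pullback.hom_ext ?_ ?_
    · simp only [Category.assoc, hψ, pullback.lift_fst, hp.inv, τ₁, τ₂, pullback.condition]
    · simp only [Category.assoc, hψ, pullback.lift_snd, hρ, inv_inv]
      rw [hσ]
      simp only [τ₁, Category.assoc]
  refine ⟨(τ₁ ≫ (ρ σ⁻¹).hom) default, ?_⟩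
  rw [← Scheme.Hom.comp_apply, key]
  simp only [τ₂, τ, Scheme.Hom.comp_apply]
  erw [GrothLib.FEt21.geomPt_default]
  exact hw

end Comparison

variable {k : Type u} [Field k] {L K : Type u} [Field L] [Field K] [Algebra k L] [Algebra k K] [Algebra L K]
  [IsScalarTower k L K] [FiniteDimensional L K] [IsGalois L K]

/-- A semilinear action on an affine scheme over `K` descends to `L`. -/
theorem exists_quot_of_semilinear {W : Over (Spec (CommRingCat.of k))} [IsAffine W.left]
    (s : W ⟶ SGA7.pt (K := k) K) (R : (K ≃ₐ[L] K) → (W ⟶ W)) (h1 : R 1 = 𝟙 W)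
    (hmul : ∀ σ τ, R (σ * τ) = R σ ≫ R τ) (hs : ∀ τ, R τ ≫ s = s ≫ gal L K τ) :
    ∃ (Q : Over (Spec (CommRingCat.of k))) (c : W ⟶ Q) (π : Q ⟶ SGA7.pt (K := k) L),
      IsPullback c s π (res L K) ∧ (∀ τ, R τ ≫ c = c) ∧ IsAffine Q.left := by
  let ρ : (K ≃ₐ[L] K) →* Aut W.left := MonoidHom.mk' (fun σ =>
    { hom := (R σ⁻¹).left
      inv := (R σ).left
      hom_inv_id := by rw [← Over.comp_left, ← hmul, inv_mul_cancel, h1]; rfl
      inv_hom_id := by rw [← Over.comp_left, ← hmul, mul_inv_cancel, h1]; rfl })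
    fun σ τ => Iso.ext (by
      show (R (σ * τ)⁻¹).left = (R τ⁻¹).left ≫ (R σ⁻¹).left
      rw [← Over.comp_left, ← hmul, mul_inv_rev])
  have hρ : ∀ σ, (ρ σ).hom ≫ s.left = s.left ≫ GalTw.specMap K σ⁻¹ := fun σ =>
    congrArg CommaMorphism.left (hs σ⁻¹)
  obtain ⟨Ql, p, hp⟩ := GrothLib.SGA1Quot21.exists_quot (ρ := ρ) fun z =>
    ⟨⊤, isAffineOpen_top _, fun σ => trivial⟩
  obtain ⟨q, hq, -⟩ := GrothLib.SGA1Quot21.existsUnique_desc hp
    (s.left ≫ (SGA7.pt (K := L) K).hom) fun σ => by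
      rw [← Category.assoc, hρ, Category.assoc, GalTw.specMap_comp_pt]
  have hq' : p ≫ q = s.left ≫ (res (k := k) L K).left := hq
  have hiso : IsIso (pullback.lift p s.left hq' : W.left ⟶ pullback q (res (k := k) L K).left) :=
    isIso_comparison s.left ρ hρ hp q hq
  let Q : Over (Spec (CommRingCat.of k)) := Over.mk (q ≫ (SGA7.pt (K := k) L).hom)
  let c : W ⟶ Q := Over.homMk p (by
    show p ≫ q ≫ _ = W.hom
    rw [reassoc_of% hq']
    exact (congrArg (s.left ≫ ·) (Over.w (res (k := k) L K))).trans (Over.w s))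
  let π : Q ⟶ SGA7.pt (K := k) L := Over.homMk q rfl
  refine ⟨Q, c, π, IsPullback.of_map (Over.forget _) (Over.OverMorphism.ext hq') ?_, fun τ => ?_, ?_⟩
  · exact IsPullback.of_iso_pullback ⟨hq'⟩ (@asIso _ _ _ _ (pullback.lift p s.left hq') hiso)
      (pullback.lift_fst _ _ _) (pullback.lift_snd _ _ _)
  · refine Over.OverMorphism.ext ?_
    have := hp.inv τ⁻¹
    change (R τ⁻¹⁻¹).left ≫ p = p at this
    rwa [inv_inv] at this
  · haveI : IsAffine ((⊤ : Ql.Opens) : Scheme.{u}) :=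
      GrothLib.SGA1Quot21.isAffineOpen_of_preimage hp (U := ⊤) (isAffineOpen_top _)
    exact IsAffine.of_isIso Ql.topIso.inv

end GrothLib.FrobTors13
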