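import Groth.Agent.Lib.FrobTors13.Galois
import Groth.Agent.Lib.SchPoints.AlgClosed
import Groth.Agent.Lib.QuotPts13.Points
import Mathlib.FieldTheory.Finite.Extension
import Mathlib.FieldTheory.IntermediateField.Adjoin.Algebra
import Mathlib.FieldTheory.Normal.Basic

/-! Points with values in an algebraic closure of a finite field and their levels. -/

set_option backward.isDefEq.respectTransparency false

universe u

open CategoryTheory CategoryTheory.Limits AlgebraicGeometry

namespace GrothLib.FrobTors13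

variable {k : Type u} [Field k] {L : Type u} [Field L] [Algebra k L]
  {kb : Type u} [Field kb] [Algebra k kb] [Algebra L kb] [IsScalarTower k L kb]

/-- `Spec kb ⟶ Spec K` over `k` for a subextension. -/
noncomputable abbrev jmap (K : IntermediateField L kb) : SGA7.pt (K := k) kb ⟶ SGA7.pt (K := k) K :=
  ptMap (K.val.restrictScalars k)

theorem jmap_res (K : IntermediateField L kb) : jmap (k := k) K ≫ res L K = res L kb := by
  ext1
  show Spec.map (CommRingCat.ofHom (K.val.restrictScalars k).toRingHom) ≫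
    Spec.map (CommRingCat.ofHom (IsScalarTower.toAlgHom k L K).toRingHom) =
    Spec.map (CommRingCat.ofHom (IsScalarTower.toAlgHom k L kb).toRingHom)
  rw [← Spec.map_comp, ← CommRingCat.ofHom_comp]
  rfl

theorem gal_jmap (K : IntermediateField L kb) (σ : kb ≃ₐ[L] kb) (τ : K ≃ₐ[L] K)
    (h : ∀ a : K, ((τ a : K) : kb) = σ (a : kb)) :
    gal (k := k) L kb σ ≫ jmap K = jmap K ≫ gal L K τ := by
  ext1
  show Spec.map (CommRingCat.ofHom (σ : kb →+* kb)) ≫
      Spec.map (CommRingCat.ofHom (K.val.restrictScalars k).toRingHom) =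
    Spec.map (CommRingCat.ofHom (K.val.restrictScalars k).toRingHom) ≫
      Spec.map (CommRingCat.ofHom (τ : K →+* K))
  rw [← Spec.map_comp, ← Spec.map_comp, ← CommRingCat.ofHom_comp, ← CommRingCat.ofHom_comp]
  exact congrArg (fun g => Spec.map (CommRingCat.ofHom g)) (RingHom.ext fun a => (h a).symm)

theorem cancel_jmap (K : IntermediateField L kb) {Y : Over (Spec (CommRingCat.of k))}
    {e e' : SGA7.pt (K := k) K ⟶ Y} (h : jmap K ≫ e = jmap K ≫ e') : e = e' :=
  cancel_of_effectiveEpi (jmap (k := k) K) h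

theorem cancel_res {Y : Over (Spec (CommRingCat.of k))}
    {e e' : SGA7.pt (K := k) L ⟶ Y} (h : res L kb ≫ e = res L kb ≫ e') : e = e' :=
  cancel_of_effectiveEpi (res (k := k) L kb) h

/-- A point with values in `kb` is defined over `K`. -/
def Lev {X : Over (Spec (CommRingCat.of k))} (K : IntermediateField L kb) (x : SGA7.pt (K := k) kb ⟶ X) :
    Prop :=
  ∃ x₀ : SGA7.pt (K := k) K ⟶ X, jmap K ≫ x₀ = x

theorem Lev.mono {X : Over (Spec (CommRingCat.of k))} {K K' : IntermediateField L kb} (hKK : K ≤ K')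
    {x : SGA7.pt (K := k) kb ⟶ X} (h : Lev K x) : Lev K' x := by
  obtain ⟨x₀, rfl⟩ := h
  refine ⟨ptMap ((IntermediateField.inclusion hKK).restrictScalars k) ≫ x₀, ?_⟩
  rw [← Category.assoc]
  congr 1
  ext1
  show Spec.map _ ≫ Spec.map _ = Spec.map _
  rw [← Spec.map_comp]
  rfl

theorem Lev.comp {X Y : Over (Spec (CommRingCat.of k))} {K : IntermediateField L kb}
    {x : SGA7.pt (K := k) kb ⟶ X} (h : Lev K x) (f : X ⟶ Y) : Lev K (x ≫ f) := by
  obtain ⟨x₀, rfl⟩ := h
  exact ⟨x₀ ≫ f, (Category.assoc _ _ _).symm⟩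

/-- A point is defined over a finite subextension. -/
def IsFin (L : Type u) [Field L] [Algebra k L] [Algebra L kb] [IsScalarTower k L kb]
    {X : Over (Spec (CommRingCat.of k))} (x : SGA7.pt (K := k) kb ⟶ X) : Prop :=
  ∃ K : IntermediateField L kb, FiniteDimensional L K ∧ Lev K x

theorem IsFin.comp {X Y : Over (Spec (CommRingCat.of k))}
    {x : SGA7.pt (K := k) kb ⟶ X} (h : IsFin L x) (f : X ⟶ Y) : IsFin L (x ≫ f) :=
  let ⟨K, hK, hx⟩ := h
  ⟨K, hK, hx.comp f⟩

theorem IsFin.common {X Y : Over (Spec (CommRingCat.of k))}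
    {x : SGA7.pt (K := k) kb ⟶ X} {y : SGA7.pt (K := k) kb ⟶ Y} (h : IsFin L x) (h' : IsFin L y) :
    ∃ K : IntermediateField L kb, FiniteDimensional L K ∧ Lev K x ∧ Lev K y := by
  obtain ⟨K, hK, hx⟩ := h
  obtain ⟨K', hK', hy⟩ := h'
  exact ⟨K ⊔ K', inferInstance, hx.mono le_sup_left, hy.mono le_sup_right⟩

/-- A point is defined over any field containing the image of its residue field. -/
theorem lev_of_range {X : Over (Spec (CommRingCat.of k))} (x : SGA7.pt (K := k) kb ⟶ X)
    (p : X.left) (ψ : X.left.residueField p ⟶ CommRingCat.of kb)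
    (hψ : Spec.map ψ ≫ X.left.fromSpecResidueField p = x.left) (K : IntermediateField L kb)
    (hK : ∀ a, ψ.hom a ∈ K) : Lev K x := by
  let ψ₀ : X.left.residueField p →+* K := ψ.hom.codRestrict K hK
  have hfac : ψ = CommRingCat.ofHom ψ₀ ≫ CommRingCat.ofHom (K.val.restrictScalars k).toRingHom :=
    CommRingCat.hom_ext (RingHom.ext fun _ => rfl)
  have hj : (jmap (k := k) K).left ≫ Spec.map (CommRingCat.ofHom ψ₀) ≫ X.left.fromSpecResidueField p =
      x.left := by
    show Spec.map _ ≫ _ = _
    rw [← Category.assoc, ← Spec.map_comp, ← hfac, hψ]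
  refine ⟨Over.homMk (Spec.map (CommRingCat.ofHom ψ₀) ≫ X.left.fromSpecResidueField p) ?_,
    Over.OverMorphism.ext hj⟩
  rw [← cancel_epi (jmap (k := k) K).left]
  have h := congrArg (· ≫ X.hom) hj
  simp only [Category.assoc] at h
  rw [Category.assoc, h, Over.w x]
  exact (Over.w (jmap (k := k) K)).symm

variable [Finite L] [Algebra.IsAlgebraic L kb]

/-- A point of a scheme locally of finite type is defined over a finite subextension. -/
theorem isFin_of_lft {X : Over (Spec (CommRingCat.of k))} [LocallyOfFiniteType X.hom]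
    (x : SGA7.pt (K := k) kb ⟶ X) : IsFin L x := by
  haveI : Finite k := Finite.of_injective _ (algebraMap k L).injective
  haveI : Module.Finite k L := Module.Finite.of_finite
  haveI : Algebra.IsAlgebraic k kb := Algebra.IsAlgebraic.trans k L kb
  obtain ⟨⟨p, ψ⟩, hxψ⟩ := (Scheme.SpecToEquivOfField kb X.left).symm.surjective x.left
  replace hxψ : Spec.map ψ ≫ X.left.fromSpecResidueField p = x.left := hxψ
  let φ := Spec.preimage (X.left.fromSpecResidueField p ≫ X.hom)
  letI : Algebra k (X.left.residueField p) := φ.hom.toAlgebra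
  haveI : Algebra.EssFiniteType k (X.left.residueField p) :=
    RingHom.essFiniteType_algebraMap.mp (GrothLib.SchPoints.essFiniteType_residueField X.hom p)
  have hφ : φ ≫ ψ = CommRingCat.ofHom (algebraMap k kb) := by
    apply Spec.map_injective
    rw [Spec.map_comp, Spec.map_preimage, ← Category.assoc, hxψ]
    exact Over.w x
  let ψA : X.left.residueField p →ₐ[k] kb := ⟨ψ.hom, fun c => congr($hφ c)⟩
  haveI : Algebra.IsAlgebraic k (X.left.residueField p) :=
    Algebra.IsAlgebraic.of_injective ψA ψ.hom.injective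
  haveI : Module.Finite k (X.left.residueField p) := Algebra.finite_of_essFiniteType_of_isAlgebraic
  haveI : Finite (X.left.residueField p) := Module.finite_of_finite k
  refine ⟨IntermediateField.adjoin L (Set.range ψ.hom), ?_, lev_of_range x p ψ hxψ _
    fun a => IntermediateField.subset_adjoin L _ ⟨a, rfl⟩⟩
  haveI : Finite (Set.range ψ.hom) := (Set.finite_range _).to_subtype
  exact IntermediateField.finiteDimensional_adjoin fun a _ => Algebra.IsIntegral.isIntegral a

omit [IsScalarTower k L kb] [Algebra k kb] [Algebra k L] [Algebra.IsAlgebraic L kb] in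
/-- The fixed elements of Frobenius. -/
theorem mem_range_of_pow_card {a : kb} (ha : a ^ Nat.card L = a) : a ∈ (algebraMap L kb).range := by
  classical
  letI := Fintype.ofFinite L
  have hne : (Polynomial.X ^ Nat.card L - Polynomial.X : Polynomial kb) ≠ 0 :=
    FiniteField.X_pow_card_sub_X_ne_zero kb Finite.one_lt_card
  have hmem : a ∈ ((Polynomial.X ^ Nat.card L - Polynomial.X : Polynomial L).map (algebraMap L kb)).roots := by
    rw [Polynomial.map_sub, Polynomial.map_pow, Polynomial.map_X, Polynomial.mem_roots hne]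
    simp only [Nat.card_eq_fintype_card] at ha ⊢
    simp [ha]
  rw [← Polynomial.roots_map_of_injective_of_card_eq_natDegree (algebraMap L kb).injective (by
    rw [Nat.card_eq_fintype_card, FiniteField.roots_X_pow_card_sub_X,
      FiniteField.X_pow_card_sub_X_natDegree_eq L Fintype.one_lt_card]
    rfl), Multiset.mem_map] at hmem
  obtain ⟨b, -, hb⟩ := hmem
  exact ⟨b, hb⟩

variable {σ : kb ≃ₐ[L] kb} (hσ : ∀ a : kb, σ a = a ^ Nat.card L)

include hσ in
/-- A point fixed by Frobenius is rational. -/
theorem exists_of_fixed {X : Over (Spec (CommRingCat.of k))} (x : SGA7.pt (K := k) kb ⟶ X)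
    (hx : gal L kb σ ≫ x = x) : ∃ x₀ : SGA7.pt (K := k) L ⟶ X, res L kb ≫ x₀ = x := by
  obtain ⟨⟨p, ψ⟩, hxψ⟩ := (Scheme.SpecToEquivOfField kb X.left).symm.surjective x.left
  replace hxψ : Spec.map ψ ≫ X.left.fromSpecResidueField p = x.left := hxψ
  have h1 : ψ ≫ CommRingCat.ofHom (σ : kb →+* kb) = ψ := by
    apply Spec.map_injective
    rw [← cancel_mono (X.left.fromSpecResidueField p), Spec.map_comp, Category.assoc, hxψ]
    exact congrArg CommaMorphism.left hx
  have hb : ∀ a, ψ.hom a ∈ (⊥ : IntermediateField L kb) := fun a => by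
    obtain ⟨b, hb⟩ := mem_range_of_pow_card (L := L) ((hσ _).symm.trans congr($h1 a))
    exact IntermediateField.mem_bot.2 ⟨b, hb⟩
  obtain ⟨x₀, hx₀⟩ := lev_of_range x p ψ hxψ ⊥ hb
  let e : L →ₐ[L] (⊥ : IntermediateField L kb) := Algebra.ofId _ _
  let e' : (⊥ : IntermediateField L kb) →ₐ[L] L := (IntermediateField.botEquiv L kb).toAlgHom
  refine ⟨ptMap (e'.restrictScalars k) ≫ x₀, ?_⟩
  rw [← hx₀, ← Category.assoc]
  congr 1
  ext1
  show Spec.map _ ≫ Spec.map _ = Spec.map _
  rw [← Spec.map_comp]
  refine congrArg Spec.map (CommRingCat.hom_ext (RingHom.ext fun a => ?_))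
  obtain ⟨b, hb⟩ := IntermediateField.mem_bot.1 a.2
  obtain rfl : a = algebraMap L (⊥ : IntermediateField L kb) b := Subtype.ext hb.symm
  show algebraMap L kb (e' (algebraMap L (⊥ : IntermediateField L kb) b)) = algebraMap L kb b
  rw [e'.commutes]
  rfl

omit [Algebra.IsAlgebraic L kb] in
/-- Finitely many points over a finite field extension. -/
theorem finite_pts {X : Over (Spec (CommRingCat.of k))} [LocallyOfFiniteType X.hom] [QuasiCompact X.hom]
    (K : Type u) [Field K] [Algebra k K] [Finite K] : Finite (SGA7.pt (K := k) K ⟶ X) := by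
  let f : Spec (CommRingCat.of K) ⟶ Spec (CommRingCat.of k) := Spec.map (CommRingCat.ofHom (algebraMap k K))
  let XK : Over (Spec (CommRingCat.of K)) := Over.mk (pullback.snd X.hom f)
  haveI : LocallyOfFiniteType XK.hom := MorphismProperty.pullback_snd _ _ ‹LocallyOfFiniteType X.hom›
  haveI : QuasiCompact XK.hom := MorphismProperty.pullback_snd _ _ ‹QuasiCompact X.hom›
  haveI := GrothLib.QuotPts13.finite_ratPt XK
  refine Finite.of_injective (fun x => (Over.homMk (pullback.lift x.left (𝟙 _) (by
      rw [Category.id_comp]; exact Over.w x)) (pullback.lift_snd _ _ _) :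
    Over.mk (𝟙 (Spec (CommRingCat.of K))) ⟶ XK)) fun x y h => ?_
  ext1
  have := congrArg (fun g => CommaMorphism.left g ≫ pullback.fst X.hom f) h
  simpa using this

end GrothLib.FrobTors13
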