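import Groth.Agent.Lib.FrobTors13.QFrob
import Groth.Agent.Lib.FrobTors13.Point
import Groth.Agent.Lib.LangMap13.Main
import Groth.Agent.S1489
import Mathlib.AlgebraicGeometry.Noetherian
import Mathlib.AlgebraicGeometry.Morphisms.UniversallyOpen

/-!
# Lang's theorem, twisted by an automorphism

For a smooth connected group `A` of finite type over a finite field and a family `α` of automorphisms of `A`
parametrised by `Spec K`, the map `x ↦ F(x)⁻¹ a α(x)` is formally étale: Frobenius kills square zero ideals.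
-/

set_option backward.isDefEq.respectTransparency false
set_option backward.isDefEq.respectTransparency.types false

universe u

open CategoryTheory CategoryTheory.Limits AlgebraicGeometry MonoidalCategory CartesianMonoidalCategory MonObj

namespace GrothLib.FrobTors13

variable {k : Type u} [Field k] [Finite k] (Φ : QFrob k) {A P : Over (Spec (CommRingCat.of k))} [GrpObj A]

omit [Finite k] in
theorem QFrob.comp_mul {T : Over (Spec (CommRingCat.of k))} (x y : T ⟶ A) :
    (x * y) ≫ Φ.map A = (x ≫ Φ.map A) * (y ≫ Φ.map A) := by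
  rw [Φ.nat, Φ.nat, Φ.nat, MonObj.comp_mul]

omit [Finite k] in
theorem QFrob.comp_inv {T : Over (Spec (CommRingCat.of k))} (x : T ⟶ A) :
    x⁻¹ ≫ Φ.map A = (x ≫ Φ.map A)⁻¹ := by
  rw [Φ.nat, Φ.nat, GrpObj.comp_inv]

/-- The twisted Lang map. -/
noncomputable def langMap (a : P ⟶ A) (α : A ⊗ P ⟶ A) : A ⊗ P ⟶ A ⊗ P :=
  lift ((fst A P ≫ Φ.map A)⁻¹ * (snd A P ≫ a) * α) (snd A P)

omit [Finite k] in
theorem comp_langMap (a : P ⟶ A) (α : A ⊗ P ⟶ A) {T : Over (Spec (CommRingCat.of k))} (x : T ⟶ A) (t : T ⟶ P) :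
    lift x t ≫ langMap Φ a α = lift ((x ≫ Φ.map A)⁻¹ * (t ≫ a) * (lift x t ≫ α)) t := by
  simp [langMap, MonObj.comp_mul, GrpObj.comp_inv, comp_lift]

/-- The Lang map is formally étale. -/
theorem isFormallyEtaleHom_langMap (a : P ⟶ A) (α β : A ⊗ P ⟶ A)
    (hαβ : ∀ {T : Over (Spec (CommRingCat.of k))} (x : T ⟶ A) (t : T ⟶ P),
      lift (lift x t ≫ α) t ≫ β = x)
    (hβα : ∀ {T : Over (Spec (CommRingCat.of k))} (x : T ⟶ A) (t : T ⟶ P),
      lift (lift x t ≫ β) t ≫ α = x) :
    MoreMor.IsFormallyEtaleHom (langMap Φ a α).left := by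
  intro R _ I hI a₀ b₀ w
  let W := A ⊗ P
  let j₀ : Spec (CommRingCat.of (R ⧸ I)) ⟶ Spec (CommRingCat.of R) :=
    Spec.map (CommRingCat.ofHom (Ideal.Quotient.mk I))
  let T : Over (Spec (CommRingCat.of k)) := Over.mk (b₀ ≫ W.hom)
  let T₀ : Over (Spec (CommRingCat.of k)) := Over.mk (j₀ ≫ b₀ ≫ W.hom)
  let j : T₀ ⟶ T := Over.homMk j₀ rfl
  haveI : IsClosedImmersion j₀ := IsClosedImmersion.spec_of_surjective _ Ideal.Quotient.mk_surjective
  haveI : Mono j := (Over.forget _).mono_of_mono_map (f := j) (inferInstanceAs (Mono j₀))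
  let B : T ⟶ W := Over.homMk b₀ rfl
  let A₀ : T₀ ⟶ W := Over.homMk a₀ (by
    show a₀ ≫ W.hom = j₀ ≫ b₀ ≫ W.hom
    conv_lhs => rw [← Over.w (langMap Φ a α), ← Category.assoc, ← w, Category.assoc])
  have hw : A₀ ≫ langMap Φ a α = j ≫ B := Over.OverMorphism.ext w.symm
  -- Frobenius factors through the closed subscheme
  obtain ⟨r, hr⟩ : ∃ r : T ⟶ T₀, r ≫ j = Φ.map T := by
    let ψ : CommRingCat.of R ⟶ CommRingCat.of R :=
      (Scheme.ΓSpecIso (CommRingCat.of R)).inv ≫ (Φ.map T).left.appTop ≫ (Scheme.ΓSpecIso (CommRingCat.of R)).hom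
    have hψ : ∀ s : R, ψ.hom s = s ^ Nat.card k := fun s => by
      show (Scheme.ΓSpecIso (CommRingCat.of R)).hom.hom
        ((Φ.map T).left.appTop ((Scheme.ΓSpecIso (CommRingCat.of R)).inv.hom s)) = _
      rw [Φ.appTop, map_pow]
      exact congrArg (· ^ Nat.card k) ((Scheme.ΓSpecIso (CommRingCat.of R)).inv_hom_id_apply s)
    have hker : ∀ i ∈ I, ψ.hom i = 0 := fun i hi => by
      rw [hψ]
      obtain ⟨m, hm⟩ : ∃ m, Nat.card k = 2 + m := Nat.exists_eq_add_of_le Finite.one_lt_card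
      have h2 : i ^ 2 = 0 := by
        have := Ideal.pow_mem_pow hi 2
        rwa [hI, Ideal.mem_bot] at this
      rw [hm, pow_add, h2, zero_mul]
    let ρ : CommRingCat.of (R ⧸ I) ⟶ CommRingCat.of R := CommRingCat.ofHom (Ideal.Quotient.lift I ψ.hom hker)
    have hρ : Spec.map ρ ≫ j₀ = (Φ.map T).left := by
      show Spec.map ρ ≫ Spec.map _ = _
      rw [← Spec.map_comp]
      refine ext_of_isAffine ?_
      have : CommRingCat.ofHom (Ideal.Quotient.mk I) ≫ ρ = ψ := by ext s; rfl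
      rw [this]
      rw [← cancel_mono (Scheme.ΓSpecIso (CommRingCat.of R)).hom]
      erw [Scheme.ΓSpecIso_naturality]
      show (Scheme.ΓSpecIso (CommRingCat.of R)).hom ≫ ψ = _
      simp [ψ]
    exact ⟨Over.homMk (Spec.map ρ) (by
      show Spec.map ρ ≫ j₀ ≫ b₀ ≫ W.hom = _
      rw [reassoc_of% hρ]
      exact Over.w (Φ.map T)), Over.OverMorphism.ext hρ⟩
  have hjr : j ≫ r = Φ.map T₀ := by
    rw [← cancel_mono j, Category.assoc, hr, Φ.nat]
  let x₀ := A₀ ≫ fst A P
  let y := B ≫ fst A P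
  let t := B ≫ snd A P
  have hA₀ : A₀ = lift x₀ (j ≫ t) := by
    apply CartesianMonoidalCategory.hom_ext
    · simp [x₀]
    · rw [lift_snd]
      have := congrArg (· ≫ snd A P) hw
      simpa [langMap, t] using this
  have hB : B = lift y t := by apply CartesianMonoidalCategory.hom_ext <;> simp [y, t]
  have heq : (x₀ ≫ Φ.map A)⁻¹ * (j ≫ t ≫ a) * (lift x₀ (j ≫ t) ≫ α) = j ≫ y := by
    have := congrArg (· ≫ fst A P) hw
    rw [hA₀, comp_langMap] at this
    simpa [y] using this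
  -- a lift has determined Frobenius
  have hF : ∀ x : T ⟶ A, j ≫ x = x₀ → x ≫ Φ.map A = r ≫ x₀ := fun x hx => by
    rw [Φ.nat, ← hr, Category.assoc, hx]
  let x := lift ((t ≫ a)⁻¹ * (r ≫ x₀) * y) t ≫ β
  have hjx : j ≫ x = x₀ := by
    simp only [x, ← Category.assoc, comp_lift, MonObj.comp_mul, GrpObj.comp_inv]
    rw [hjr, ← Φ.nat, ← heq]
    simp only [Category.assoc]
    rw [_root_.mul_assoc ((j ≫ t ≫ a))⁻¹, _root_.mul_assoc (x₀ ≫ Φ.map A)⁻¹, mul_inv_cancel_left,
      inv_mul_cancel_left]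
    exact hαβ x₀ (j ≫ t)
  have hx : lift x t ≫ langMap Φ a α = B := by
    rw [comp_langMap, hF x hjx, hβα, hB]
    congr 1
    simp [_root_.mul_assoc]
  refine ⟨(lift x t).left, ⟨?_, congrArg CommaMorphism.left hx⟩, fun l ⟨hl1, hl2⟩ => ?_⟩
  · refine congrArg CommaMorphism.left (?_ : j ≫ lift x t = A₀)
    rw [comp_lift, hjx, hA₀]
  · let l' : T ⟶ W := Over.homMk l (by
      show l ≫ W.hom = b₀ ≫ W.hom
      conv_lhs => rw [← Over.w (langMap Φ a α), ← Category.assoc, hl2])
    have h1 : j ≫ l' = A₀ := Over.OverMorphism.ext hl1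
    have h2 : l' ≫ langMap Φ a α = B := Over.OverMorphism.ext hl2
    have hs : l' ≫ snd A P = t := by
      have := congrArg (· ≫ snd A P) h2
      simpa [langMap, t] using this
    have hl' : l' = lift (l' ≫ fst A P) t := by
      apply CartesianMonoidalCategory.hom_ext <;> simp [hs]
    have hj : j ≫ l' ≫ fst A P = x₀ := by rw [reassoc_of% h1]
    rw [hl', comp_langMap, hF _ hj, hB] at h2
    have h3 := congrArg (· ≫ fst A P) h2
    simp only [lift_fst] at h3
    have h4 : l' ≫ fst A P = x := by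
      rw [← hαβ (l' ≫ fst A P) t]
      show _ = lift ((t ≫ a)⁻¹ * (r ≫ x₀) * y) t ≫ β
      rw [← h3]
      congr 2
      simp [_root_.mul_assoc]
    show l'.left = (lift x t).left
    rw [hl', h4]

omit [Finite k] [GrpObj A] in
/-- Frobenius on geometric points is the Galois action. -/
theorem QFrob.map_pt {kb : Type u} [Field kb] [Algebra k kb] {σ : kb ≃ₐ[k] kb}
    (hσ : ∀ c : kb, σ c = c ^ Nat.card k) : Φ.map (SGA7.pt (K := k) kb) = SGA7.specAut σ := by
  haveI : IsAffine (SGA7.pt (K := k) kb).left := inferInstanceAs (IsAffine (Spec (CommRingCat.of kb)))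
  refine Over.OverMorphism.ext (ext_of_isAffine ?_)
  ext s
  rw [Φ.appTop]
  obtain ⟨c, rfl⟩ := (ConcreteCategory.bijective_of_isIso (Scheme.ΓSpecIso (CommRingCat.of kb)).inv).2 s
  refine (map_pow (Scheme.ΓSpecIso (CommRingCat.of kb)).inv.hom c _).symm.trans ?_
  rw [← hσ c]
  exact congr($(Scheme.ΓSpecIso_inv_naturality (CommRingCat.ofHom (σ : kb →+* kb))).hom c)

variable {kb : Type u} [Field kb] [Algebra k kb] [IsAlgClosed kb] [Algebra.IsAlgebraic k kb]
  {σ : kb ≃ₐ[k] kb} (hσ : ∀ c : kb, σ c = c ^ Nat.card k)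

include hσ in
/-- **Lang's theorem**, twisted by automorphisms defined over a finite extension. -/
theorem exists_lang [Smooth A.hom] [QuasiCompact A.hom] [ConnectedSpace A.left]
    (K : IntermediateField k kb) [FiniteDimensional k K]
    (α β : A ⊗ SGA7.pt (K := k) K ⟶ A)
    (hαβ : ∀ {T : Over (Spec (CommRingCat.of k))} (x : T ⟶ A) (t : T ⟶ SGA7.pt (K := k) K),
      lift (lift x t ≫ α) t ≫ β = x)
    (hβα : ∀ {T : Over (Spec (CommRingCat.of k))} (x : T ⟶ A) (t : T ⟶ SGA7.pt (K := k) K),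
      lift (lift x t ≫ β) t ≫ α = x)
    (hmul : ∀ {T : Over (Spec (CommRingCat.of k))} (x y : T ⟶ A) (t : T ⟶ SGA7.pt (K := k) K),
      lift (x * y) t ≫ α = (lift x t ≫ α) * (lift y t ≫ α))
    (a : SGA7.pt (K := k) K ⟶ A) :
    ∃ z : SGA7.Pts kb A, jmap K ≫ a = (σ • z)⁻¹ * (lift z (jmap K) ≫ α) := by
  obtain ⟨Φ⟩ := nonempty_qFrob k
  let P := SGA7.pt (K := k) K
  let W := A ⊗ P
  haveI : LocallyOfFiniteType P.hom := by
    show LocallyOfFiniteType (Spec.map (CommRingCat.ofHom (algebraMap k K)))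
    rw [HasRingHomProperty.Spec_iff (P := @LocallyOfFiniteType)]
    exact RingHom.finiteType_algebraMap.mpr inferInstance
  haveI : LocallyOfFiniteType W.hom := by
    show LocallyOfFiniteType (pullback.fst A.hom P.hom ≫ A.hom)
    infer_instance
  haveI : IsLocallyNoetherian W.left := LocallyOfFiniteType.isLocallyNoetherian W.hom
  haveI hirr : IrreducibleSpace W.left := by
    haveI := Neutral.geometricallyConnected_of_point A.hom (η[A] : 𝟙_ _ ⟶ A).left (Over.w _)
    haveI := Rigidity.geometricallyIntegral_of_smooth A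
    haveI : IsIntegral P.left := inferInstanceAs (IsIntegral (Spec (CommRingCat.of K)))
    haveI : Subsingleton ↥P.left := inferInstanceAs (Subsingleton (PrimeSpectrum K))
    haveI : IsLocallyNoetherian (pullback A.hom P.hom) := by
      haveI : IsLocallyNoetherian P.left := inferInstanceAs (IsLocallyNoetherian (Spec (CommRingCat.of K)))
      exact LocallyOfFiniteType.isLocallyNoetherian (pullback.snd A.hom P.hom)
    haveI : IsIntegral (pullback A.hom P.hom) :=
      GeometricallyIntegral.isIntegral_of_subsingleton (pullback.snd A.hom P.hom)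
    exact inferInstanceAs (IrreducibleSpace ↥(pullback A.hom P.hom))
  have hopen : ∀ c : P ⟶ A, IsOpen (Set.range (langMap Φ c α).left) := fun c => by
    haveI : LocallyOfFiniteType ((langMap Φ c α).left ≫ W.hom) := by rw [Over.w]; infer_instance
    haveI : LocallyOfFiniteType (langMap Φ c α).left := locallyOfFiniteType_of_comp _ W.hom
    haveI : Etale (langMap Φ c α).left :=
      (Groth.Agent.S1489.result _).2 ⟨inferInstance, isFormallyEtaleHom_langMap Φ c α β hαβ hβα⟩
    exact (langMap Φ c α).left.isOpenMap.isOpen_range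
  obtain ⟨w, ⟨u₁, hu₁⟩, ⟨u₂, hu₂⟩⟩ := nonempty_preirreducible_inter (hopen 1) (hopen a)
    (Set.range_nonempty _) (Set.range_nonempty _)
  -- a geometric point of the fibre product over `Spec K`
  obtain ⟨v, -, -⟩ := Scheme.Pullback.exists_preimage_pullback u₁ u₂ (hu₁.trans hu₂.symm)
  let L₁ := (langMap Φ (1 : P ⟶ A) α).left
  let L₂ := (langMap Φ a α).left
  have hs : ∀ c : P ⟶ A, (langMap Φ c α).left ≫ (snd A P).left = (snd A P).left := fun c => by
    rw [← Over.comp_left, langMap, lift_snd]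
  let π : pullback L₁ L₂ ⟶ Spec (CommRingCat.of K) := pullback.fst L₁ L₂ ≫ (snd A P).left
  haveI : LocallyOfFiniteType π := by
    haveI : LocallyOfFiniteType (pullback.fst L₁ L₂) := by
      haveI : LocallyOfFiniteType (L₂ ≫ W.hom) := by rw [Over.w]; infer_instance
      haveI : LocallyOfFiniteType L₂ := locallyOfFiniteType_of_comp _ W.hom
      infer_instance
    haveI : LocallyOfFiniteType (snd A P).left := inferInstanceAs (LocallyOfFiniteType (pullback.snd A.hom P.hom))
    infer_instance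
  obtain ⟨x, hx⟩ := GrothLib.SchPoints.exists_lift π (jmap (k := k) K).left ⟨v, by
    haveI : Subsingleton ↥(Spec (CommRingCat.of K)) := inferInstanceAs (Subsingleton (PrimeSpectrum K))
    exact Subsingleton.elim _ _⟩
  have hx' : (x ≫ pullback.fst L₁ L₂) ≫ (snd A P).left = (jmap (k := k) K).left := by
    rw [Category.assoc]; exact hx
  have hx2 : (x ≫ pullback.snd L₁ L₂) ≫ (snd A P).left = (jmap (k := k) K).left := by
    rw [Category.assoc, ← hs a, ← pullback.condition_assoc, hs 1, ← Category.assoc]; exact hx'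
  have hwP : ∀ m : (SGA7.pt (K := k) kb).left ⟶ W.left, m ≫ (snd A P).left = (jmap (k := k) K).left →
      m ≫ W.hom = (SGA7.pt (K := k) kb).hom := fun m hm => by
    rw [← Over.w (snd A P), ← Category.assoc, hm]
    exact Over.w (jmap (k := k) K)
  let p₁ : SGA7.pt (K := k) kb ⟶ W := Over.homMk (x ≫ pullback.fst L₁ L₂) (hwP _ hx')
  let p₂ : SGA7.pt (K := k) kb ⟶ W := Over.homMk (x ≫ pullback.snd L₁ L₂) (hwP _ hx2)
  have hp₁ : p₁ = lift (p₁ ≫ fst A P) (jmap K) := by
    apply CartesianMonoidalCategory.hom_ext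
    · exact (lift_fst _ _).symm
    · rw [lift_snd]; exact Over.OverMorphism.ext hx'
  have hp₂ : p₂ = lift (p₂ ≫ fst A P) (jmap K) := by
    apply CartesianMonoidalCategory.hom_ext
    · exact (lift_fst _ _).symm
    · rw [lift_snd]; exact Over.OverMorphism.ext hx2
  have hpp : p₁ ≫ langMap Φ 1 α = p₂ ≫ langMap Φ a α :=
    Over.OverMorphism.ext (by
      show (x ≫ pullback.fst L₁ L₂) ≫ L₁ = (x ≫ pullback.snd L₁ L₂) ≫ L₂
      rw [Category.assoc, Category.assoc, pullback.condition])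
  rw [hp₁, hp₂, comp_langMap, comp_langMap] at hpp
  have h := (lift_fst _ _).symm.trans ((congrArg (· ≫ fst A P) hpp).trans (lift_fst _ _))
  rw [MonObj.comp_one, _root_.mul_one] at h
  set x₁ := p₁ ≫ fst A P
  set y₁ := p₂ ≫ fst A P
  refine ⟨x₁ * y₁⁻¹, ?_⟩
  have hinv : lift y₁⁻¹ (jmap K) ≫ α = (lift y₁ (jmap K) ≫ α)⁻¹ :=
    map_inv (MonoidHom.mk' (fun z : SGA7.Pts kb A => lift z (jmap K) ≫ α) (fun z z' => hmul z z' _)) y₁
  have hσz : σ • (x₁ * y₁⁻¹) = (x₁ ≫ Φ.map A) * (y₁ ≫ Φ.map A)⁻¹ := by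
    rw [← Φ.comp_inv, ← Φ.comp_mul, Φ.nat, Φ.map_pt hσ]
    rfl
  rw [hσz, hmul, hinv, _root_.mul_inv_rev, _root_.inv_inv, _root_.mul_assoc, ← _root_.mul_assoc (x₁ ≫ Φ.map A)⁻¹, h]
  simp [_root_.mul_assoc]

end GrothLib.FrobTors13
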