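import Groth.Prelude.Def_Frob
import Groth.Prelude.Def_SGA7a
import Mathlib.FieldTheory.Finite.Basic
import Mathlib.CategoryTheory.Monoidal.Cartesian.Over
import Mathlib.CategoryTheory.Monoidal.Cartesian.Mon

/-! The Frobenius endomorphism of the schemes over a finite field with `q` elements. -/

set_option backward.isDefEq.respectTransparency false

universe u

open CategoryTheory AlgebraicGeometry

namespace GrothLib.FrobTors13

/-- A family of endomorphisms of all schemes over `k` that commutes with all morphisms and is the `q`-th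
power map on affine schemes. -/
structure QFrob (k : Type u) [Field k] where
  /-- the endomorphism of each scheme -/
  map : ∀ X : Over (Spec (CommRingCat.of k)), X ⟶ X
  nat : ∀ {X Y : Over (Spec (CommRingCat.of k))} (f : X ⟶ Y), f ≫ map Y = map X ≫ f
  appTop : ∀ (X : Over (Spec (CommRingCat.of k))) (s : Γ(X.left, ⊤)), (map X).left.appTop s = s ^ Nat.card k

variable {k : Type u} [Field k]

/-- The absolute Frobenius iterated. -/
noncomputable def frobIter (X : Scheme.{u}) (p : ℕ) [Fact p.Prime] [FrobSch.IsCharP X p] : ℕ → (X ⟶ X)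
  | 0 => 𝟙 X
  | n + 1 => frobIter X p n ≫ FrobSch.frob X p

theorem frobIter_comp {X Y : Scheme.{u}} (p : ℕ) [Fact p.Prime] [FrobSch.IsCharP X p] [FrobSch.IsCharP Y p]
    (f : X ⟶ Y) (n : ℕ) : frobIter X p n ≫ f = f ≫ frobIter Y p n := by
  induction n with
  | zero => simp [frobIter]
  | succ n ih => simp only [frobIter, Category.assoc, FrobSch.frob_comp p f, reassoc_of% ih]

theorem frobIter_appTop {X : Scheme.{u}} (p : ℕ) [Fact p.Prime] [FrobSch.IsCharP X p] (n : ℕ) (s : Γ(X, ⊤)) :
    (frobIter X p n).appTop s = s ^ p ^ n := by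
  induction n generalizing s with
  | zero => simp [frobIter]
  | succ n ih =>
    show ((FrobSch.frob X p).appTop ≫ (frobIter X p n).appTop).hom s = _
    rw [CommRingCat.comp_apply, FrobSch.frob_appTop, ih, ← pow_mul, pow_succ']

variable (k) [Finite k]

theorem nonempty_qFrob : Nonempty (QFrob k) := by
  letI := Fintype.ofFinite k
  obtain ⟨p, hp⟩ := CharP.exists k
  haveI : Fact p.Prime := ⟨CharP.char_is_prime k p⟩
  obtain ⟨n', hn'⟩ := FiniteField.card k p
  obtain ⟨n, hn⟩ : ∃ n : ℕ, Fintype.card k = p ^ n := ⟨n', hn'.2⟩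
  haveI hX : ∀ X : Over (Spec (CommRingCat.of k)), FrobSch.IsCharP X.left p := fun X =>
    haveI : FrobSch.IsCharP (Spec (CommRingCat.of k)) p := FrobSch.isCharP_Spec' (CommRingCat.of k) p
    FrobSch.IsCharP.of_hom X.hom p
  haveI : FrobSch.IsCharP (Spec (CommRingCat.of k)) p := FrobSch.isCharP_Spec' (CommRingCat.of k) p
  have hbase : frobIter (Spec (CommRingCat.of k)) p n = 𝟙 _ := by
    refine ext_of_isAffine ?_
    ext s
    rw [frobIter_appTop]
    obtain ⟨c, rfl⟩ := (ConcreteCategory.bijective_of_isIso (Scheme.ΓSpecIso (CommRingCat.of k)).inv).2 s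
    rw [Scheme.Hom.id_appTop, ← map_pow, ← hn]
    exact congrArg _ (FiniteField.pow_card c)
  exact ⟨{
    map := fun X => Over.homMk (frobIter X.left p n) (by
      rw [frobIter_comp p X.hom n, hbase, Category.comp_id])
    nat := fun f => Over.OverMorphism.ext (frobIter_comp p f.left n).symm
    appTop := fun X s => by
      show (frobIter X.left p n).appTop s = _
      rw [frobIter_appTop, Nat.card_eq_fintype_card, hn] }⟩

end GrothLib.FrobTors13
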