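import Groth.Agent.Lib.FrobTors13.Build
import Groth.Prelude.Def_GalTw2
import Mathlib.CategoryTheory.Monoidal.Cartesian.Grp

/-! Rational points of twists and finiteness of twisted fixed points over a finite field. -/

set_option backward.isDefEq.respectTransparency false
set_option backward.isDefEq.respectTransparency.types false

universe u

open CategoryTheory CategoryTheory.Limits AlgebraicGeometry MonoidalCategory CartesianMonoidalCategory MonObj

namespace GrothLib.FrobTors13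

section Sec

variable {k : Type u} [Field k] (K : Type u) [Field K] [Algebra k K] {X Y G : Over (Spec (CommRingCat.of k))}

/-- The point of a section of the base change. -/
noncomputable def ptOfSec (s : 𝟙_ (Over (Spec (CommRingCat.of K))) ⟶ GalTw.bcK K X) : SGA7.Pts K X :=
  Over.homMk (s.left ≫ pullback.fst X.hom (SGA7.pt (K := k) K).hom) (by
    show (s.left ≫ pullback.fst _ _) ≫ X.hom = (SGA7.pt (K := k) K).hom
    have h : s.left ≫ pullback.snd X.hom (SGA7.pt (K := k) K).hom = 𝟙 _ := Over.w s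
    rw [Category.assoc, pullback.condition, reassoc_of% h])

theorem ptOfSec_secOfPt (x : SGA7.Pts K X) : ptOfSec K (GalTw.secOfPt K x) = x := by
  ext1
  show (GalTw.secOfPt K x).left ≫ _ = x.left
  rw [GalTw.secOfPt_left, pullback.lift_fst]

theorem secOfPt_ptOfSec (s : 𝟙_ (Over (Spec (CommRingCat.of K))) ⟶ GalTw.bcK K X) :
    GalTw.secOfPt K (ptOfSec K s) = s := by
  ext1
  refine pullback.hom_ext ?_ ?_
  · rw [GalTw.secOfPt_left, pullback.lift_fst]; rfl
  · rw [GalTw.secOfPt_left, pullback.lift_snd]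
    exact (Over.w s).symm

/-- Points of a form correspond to points of the original scheme. -/
noncomputable def formPts (φ : GalTw.bcK K Y ≅ GalTw.bcK K X) : SGA7.Pts K Y ≃ SGA7.Pts K X where
  toFun y := ptOfSec K (GalTw.secOfPt K y ≫ φ.hom)
  invFun x := ptOfSec K (GalTw.secOfPt K x ≫ φ.inv)
  left_inv y := by
    show ptOfSec K (GalTw.secOfPt K (ptOfSec K _) ≫ φ.inv) = y
    rw [secOfPt_ptOfSec, Category.assoc, φ.hom_inv_id, Category.comp_id, ptOfSec_secOfPt]
  right_inv x := by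
    show ptOfSec K (GalTw.secOfPt K (ptOfSec K _) ≫ φ.hom) = x
    rw [secOfPt_ptOfSec, Category.assoc, φ.inv_hom_id, Category.comp_id, ptOfSec_secOfPt]

theorem secOfPt_smul (σ : K ≃ₐ[k] K) (x : SGA7.Pts K X) :
    (GalTw.secOfPt K (σ • x)).left ≫ GalTw.galMap K σ X = GalTw.specMap K σ ≫ (GalTw.secOfPt K x).left := by
  refine pullback.hom_ext ?_ ?_
  · rw [Category.assoc, GalTw.galMap_fst, GalTw.secOfPt_left, pullback.lift_fst, Category.assoc,
      GalTw.secOfPt_left, pullback.lift_fst]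
    rfl
  · rw [Category.assoc, GalTw.galMap_snd, GalTw.secOfPt_left, pullback.lift_snd_assoc, Category.assoc,
      GalTw.secOfPt_left, pullback.lift_snd]
    exact (Category.id_comp _).trans (Category.comp_id _).symm

theorem formPts_smul (φ : GalTw.bcK K Y ≅ GalTw.bcK K X) (σ : K ≃ₐ[k] K) (y : SGA7.Pts K Y) :
    formPts K φ (σ • y) =
      ptOfSec K (GalTw.secOfPt K (σ • formPts K φ y) ≫ (GalTw.cocycle φ σ).hom) := by
  have h1 : φ.hom = GalTw.twHom σ φ.hom ≫ (GalTw.cocycle φ σ).hom := by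
    rw [GalTw.cocycle_apply_hom]
    exact ((GalTw.twIso σ φ).hom_inv_id_assoc φ.hom).symm
  have h2 : GalTw.secOfPt K (σ • y) ≫ GalTw.twHom σ φ.hom = GalTw.secOfPt K (σ • formPts K φ y) := by
    ext1
    show (GalTw.secOfPt K (σ • y)).left ≫ GalTw.galMap K σ Y ≫ φ.hom.left ≫ GalTw.galMap K σ⁻¹ X = _
    rw [reassoc_of% (secOfPt_smul K σ y)]
    have h3 : (GalTw.secOfPt K (formPts K φ y)) = GalTw.secOfPt K y ≫ φ.hom := secOfPt_ptOfSec K _
    have h4 := secOfPt_smul K σ (formPts K φ y)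
    rw [h3] at h4
    rw [← Category.assoc (GalTw.secOfPt K y).left, ← Over.comp_left, ← Category.assoc, ← h4, Category.assoc,
      GalTw.galMap_mul, mul_inv_cancel, GalTw.galMap_one, Category.comp_id]
  show ptOfSec K (GalTw.secOfPt K (σ • y) ≫ φ.hom) = _
  conv_lhs => rw [h1, ← Category.assoc, h2]

variable [GrpObj G]

theorem ptOfSec_actK (a : AlgGrp.Action G X) (g : SGA7.Pts K G) (x : SGA7.Pts K X) :
    ptOfSec K (GalTw.secOfPt K x ≫ GalTw.actK K a g) = lift g x ≫ a.act := by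
  have key : lift x (𝟙 (SGA7.pt (K := k) K)) ≫
      (lift (snd X (SGA7.pt (K := k) K) ≫ g) (fst X (SGA7.pt (K := k) K)) ≫ a.act) = lift g x ≫ a.act := by
    rw [← Category.assoc, comp_lift, lift_snd_assoc, Category.id_comp, lift_fst]
  ext1
  show ((GalTw.secOfPt K x).left ≫ (pullback.lift _ _ _)) ≫ pullback.fst _ _ = _
  rw [Category.assoc, pullback.lift_fst]
  exact congrArg CommaMorphism.left key

theorem secOfPt_comp (x : SGA7.Pts K G) :
    GalTw.secOfPt K x = GalTw.secOfPt K (𝟙 (SGA7.pt (K := k) K)) ≫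
      (Over.pullback (SGA7.pt (K := k) K).hom).map x := by
  ext1
  refine pullback.hom_ext ?_ ?_
  · rw [Over.comp_left, Category.assoc, GalTw.secOfPt_left, pullback.lift_fst]
    show _ = _ ≫ pullback.lift _ _ _ ≫ pullback.fst _ _
    rw [pullback.lift_fst, GalTw.secOfPt_left, pullback.lift_fst_assoc]
    exact (Category.id_comp _).symm
  · rw [Over.comp_left, Category.assoc, GalTw.secOfPt_left, pullback.lift_snd]
    show _ = _ ≫ pullback.lift _ _ _ ≫ pullback.snd _ _
    rw [pullback.lift_snd, GalTw.secOfPt_left, pullback.lift_snd]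

theorem secOfPt_mul (x y : SGA7.Pts K G) :
    GalTw.secOfPt K (x * y) = GalTw.secOfPt K x * GalTw.secOfPt K y := by
  rw [secOfPt_comp, secOfPt_comp K x, secOfPt_comp K y, ← MonObj.comp_mul]
  exact congrArg _ (Functor.map_mul _ x y)

set_option synthInstance.maxHeartbeats 200000 in
theorem ptOfSec_innK (g h : SGA7.Pts K G) :
    ptOfSec K (GalTw.secOfPt K h ≫ GalTw.innK K g) = g * h * g⁻¹ := by
  have hinv : GalTw.secOfPt K g⁻¹ = (GalTw.secOfPt K g)⁻¹ :=
    map_inv (MonoidHom.mk' (fun x : SGA7.Pts K G => GalTw.secOfPt K x) (secOfPt_mul K)) g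
  have hu : GalTw.secOfPt K h ≫ toUnit (GalTw.bcK K G) ≫ GalTw.secOfPt K g = GalTw.secOfPt K g := by
    rw [← Category.assoc, toUnit_unique (GalTw.secOfPt K h ≫ toUnit _) (𝟙 _), Category.id_comp]
  rw [GalTw.innK, AGF.conjBy, MonObj.comp_mul, MonObj.comp_mul, GrpObj.comp_inv, hu, Category.comp_id,
    ← hinv, ← secOfPt_mul, ← secOfPt_mul, ptOfSec_secOfPt]

end Sec

variable {k : Type u} [Field k] [Finite k] {X G : Over (Spec (CommRingCat.of k))}
  {kb : Type u} [Field kb] [Algebra k kb] [Algebra.IsAlgebraic k kb]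
  {σ : kb ≃ₐ[k] kb} (hσ : ∀ x : kb, σ x = x ^ Nat.card k)

theorem gal_eq (σ : kb ≃ₐ[k] kb) : gal (k := k) k kb σ = SGA7.specAut σ := rfl

include hσ in
/-- Rational points are the fixed points of Frobenius. -/
theorem card_pts_eq : Nat.card (SGA7.Pts k X) = Nat.card {x : SGA7.Pts kb X // σ • x = x} := by
  refine Nat.card_congr (Equiv.ofBijective
    (fun x₀ => ⟨res (k := k) k kb ≫ x₀, by rw [GalTw.pts_smul_def, ← gal_eq, ← Category.assoc, gal_res]⟩)
    ⟨fun a b h => cancel_res (congrArg Subtype.val h), fun ⟨x, hx⟩ => ?_⟩)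
  obtain ⟨x₀, hx₀⟩ := exists_of_fixed (L := k) hσ x hx
  exact ⟨x₀, Subtype.ext hx₀⟩

variable [IsAlgClosed kb]

include hσ in
/-- Finitely many points are fixed by a positive power of Frobenius. -/
theorem finite_fixed_pow [LocallyOfFiniteType X.hom] [QuasiCompact X.hom] (n : ℕ) (hn : n ≠ 0) :
    Finite {x : SGA7.Pts kb X // σ ^ n • x = x} := by
  obtain ⟨K, hK, hKn⟩ := exists_level k kb n hn
  haveI : Finite K := Module.finite_of_finite k
  haveI : Algebra.IsAlgebraic K kb := Algebra.IsAlgebraic.tower_top (K := k) K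
  obtain ⟨σK, hσK⟩ := exists_frob K kb
  haveI : Finite (SGA7.pt (K := k) K ⟶ X) := finite_pts K
  have hpow : ∀ a : kb, σK a = (σ ^ n) a := by
    intro a
    rw [hσK, Module.natCard_eq_pow_finrank (K := k), hKn]
    clear hKn hn
    induction n with
    | zero => rw [pow_zero, pow_zero, pow_one]; rfl
    | succ m ih => rw [show σ ^ (m + 1) = σ * σ ^ m from pow_succ' σ m, AlgEquiv.mul_apply, ← ih, hσ, ← pow_mul, ← pow_succ]
  refine Finite.of_surjective (α := SGA7.pt (K := k) K ⟶ X)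
    (fun x₀ => ⟨res (k := k) K kb ≫ x₀, ?_⟩) fun ⟨x, hx⟩ => ?_
  · rw [GalTw.pts_smul_def, ← Category.assoc]
    refine congrArg (· ≫ x₀) ?_
    refine Eq.trans ?_ (gal_res K kb σK)
    refine congrArg (· ≫ res (k := k) K kb) (Over.OverMorphism.ext ?_)
    exact congrArg (fun g => Spec.map (CommRingCat.ofHom g)) (RingHom.ext fun a => (hpow a).symm)
  · obtain ⟨x₀, hx₀⟩ := exists_of_fixed (L := K) hσK x (by
      conv_rhs => rw [← hx, GalTw.pts_smul_def]
      refine congrArg (· ≫ x) (Over.OverMorphism.ext ?_)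
      exact congrArg (fun g => Spec.map (CommRingCat.ofHom g)) (RingHom.ext fun a => hpow a))
    exact ⟨x₀, Subtype.ext hx₀⟩

variable [GrpObj G] [LocallyOfFiniteType G.hom] [QuasiCompact G.hom]

include hσ in
/-- The cocycle with a given value at Frobenius has trivial norm at some positive level. -/
theorem exists_fpow_eq_one (g : SGA7.Pts kb G) :
    ∃ n : ℕ, n ≠ 0 ∧ fpow (MulDistribMulAction.toMonoidHom (SGA7.Pts kb G) σ) g n = 1 := by
  letI := Fintype.ofFinite k
  obtain ⟨K₀, hK₀, g₀, hg₀⟩ := isFin_of_lft (L := k) g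
  haveI : Finite K₀ := Module.finite_of_finite k
  haveI : Finite (SGA7.pt (K := k) K₀ ⟶ G) := finite_pts K₀
  let τ₀ : K₀ ≃ₐ[k] K₀ := FiniteField.frobeniusAlgEquivOfAlgebraic k K₀
  let inc : (SGA7.pt (K := k) K₀ ⟶ G) →* SGA7.Pts kb G :=
    { toFun := fun v => jmap K₀ ≫ v, map_one' := MonObj.comp_one _, map_mul' := fun _ _ => MonObj.comp_mul _ _ _ }
  have hsq : ∀ v, inc (galHom τ₀ v) = MulDistribMulAction.toMonoidHom (SGA7.Pts kb G) σ (inc v) := fun v => by
    show jmap K₀ ≫ gal k K₀ τ₀ ≫ v = gal k kb σ ≫ jmap K₀ ≫ v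
    rw [← Category.assoc, ← gal_jmap K₀ σ τ₀ (fun x => by rw [hσ, Nat.card_eq_fintype_card]; rfl),
      Category.assoc]
  refine ⟨Module.finrank k K₀ * orderOf (fpow (galHom (k := k) τ₀) g₀ (Module.finrank k K₀)),
    (Nat.mul_pos Module.finrank_pos (isOfFinOrder_of_finite _).orderOf_pos).ne', ?_⟩
  rw [show g = inc g₀ from hg₀.symm, ← fpow_map (galHom (k := k) τ₀) g₀ _ inc hsq, fpow_mul,
    pow_orderOf_eq_one, map_one]
  intro x
  rw [galHom_iterate, show τ₀ ^ Module.finrank k K₀ = 1 by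
    rw [← FiniteField.orderOf_frobeniusAlgEquivOfAlgebraic k K₀]; exact pow_orderOf_eq_one _,
    gal_one, Category.id_comp]

end GrothLib.FrobTors13
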