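import Groth.Agent.Lib.FrobTors13.GalQuot
import Groth.Agent.Lib.FrobTors13.Torsor

/-! The torsor defined by a Galois cocycle over a finite Galois extension. -/

set_option backward.isDefEq.respectTransparency false
set_option backward.isDefEq.respectTransparency.types false

universe u

open CategoryTheory CategoryTheory.Limits AlgebraicGeometry MonoidalCategory CartesianMonoidalCategory MonObj

namespace GrothLib.FrobTors13

variable {k : Type u} [Field k] {G : Over (Spec (CommRingCat.of k))} [GrpObj G] [IsAffineHom G.hom]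
  {L K : Type u} [Field L] [Field K] [Algebra k L] [Algebra k K] [Algebra L K] [IsScalarTower k L K]
  [FiniteDimensional L K] [IsGalois L K]

omit [IsAffineHom G.hom] in
theorem lift_leftMul {Z T : Over (Spec (CommRingCat.of k))} (δ : Z ⟶ G) (w : Z ⟶ G ⊗ T) :
    lift δ w ≫ (AlgSt.leftMul G T).act = lift (δ * (w ≫ fst G T)) (w ≫ snd G T) := by
  apply CartesianMonoidalCategory.hom_ext <;> simp [AlgSt.leftMul, comp_mul]

omit [IsAffineHom G.hom] in
theorem comp_leftMul {Z T : Over (Spec (CommRingCat.of k))} (w : Z ⟶ G ⊗ (G ⊗ T)) :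
    w ≫ (AlgSt.leftMul G T).act =
      lift (w ≫ fst G _ * ((w ≫ snd G _) ≫ fst G T)) ((w ≫ snd G _) ≫ snd G T) := by
  apply CartesianMonoidalCategory.hom_ext <;> simp [AlgSt.leftMul, comp_mul]

section

variable (a : (K ≃ₐ[L] K) → (SGA7.pt (K := k) K ⟶ G))

/-- The semilinear automorphism defined by a cocycle. -/
noncomputable def twR (τ : K ≃ₐ[L] K) : G ⊗ SGA7.pt (K := k) K ⟶ G ⊗ SGA7.pt (K := k) K :=
  lift (fst G _ * (snd G _ ≫ a τ)⁻¹) (snd G _ ≫ gal L K τ)

variable {Q : Over (Spec (CommRingCat.of k))} {c : G ⊗ SGA7.pt (K := k) K ⟶ Q} {π : Q ⟶ SGA7.pt (K := k) L}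
  (pb : IsPullback c (snd G (SGA7.pt (K := k) K)) π (res L K)) (hRc : ∀ τ, twR a τ ≫ c = c)

include hRc in
omit [IsAffineHom G.hom] [FiniteDimensional L K] [IsGalois L K] in
theorem comp_twR (τ : K ≃ₐ[L] K) {Z : Over (Spec (CommRingCat.of k))} (u : Z ⟶ G ⊗ SGA7.pt (K := k) K) :
    (u ≫ twR a τ) ≫ c = u ≫ c := by rw [Category.assoc, hRc]

include pb hRc in
omit [IsAffineHom G.hom] [FiniteDimensional L K] [IsGalois L K] in
/-- Two lifts with the same image differ by the automorphism. -/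
theorem twR_eq {Z : Over (Spec (CommRingCat.of k))} (u₁ u₂ : Z ⟶ G ⊗ SGA7.pt (K := k) K) (τ : K ≃ₐ[L] K)
    (hc : u₁ ≫ c = u₂ ≫ c) (hs : u₂ ≫ snd G _ = u₁ ≫ snd G _ ≫ gal L K τ) : u₂ = u₁ ≫ twR a τ :=
  pb.hom_ext (by rw [comp_twR a hRc, hc]) (by rw [hs]; simp [twR])

include pb hRc in
omit [IsAffineHom G.hom] [FiniteDimensional L K] [IsGalois L K] in
theorem leftMul_inv {Z : Over (Spec (CommRingCat.of k))} (g₁ g₂ : Z ⟶ G ⊗ (G ⊗ SGA7.pt (K := k) K))
    (τ : K ≃ₐ[L] K) (hc : g₁ ≫ (G ◁ c) = g₂ ≫ (G ◁ c))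
    (hs : g₂ ≫ snd G _ ≫ snd G _ = g₁ ≫ (snd G _ ≫ snd G _) ≫ gal L K τ) :
    g₁ ≫ (AlgSt.leftMul G (SGA7.pt (K := k) K)).act ≫ c = g₂ ≫ (AlgSt.leftMul G (SGA7.pt (K := k) K)).act ≫ c := by
  have hfst : g₁ ≫ fst G (G ⊗ SGA7.pt (K := k) K) = g₂ ≫ fst G (G ⊗ SGA7.pt (K := k) K) := by
    rw [← whiskerLeft_fst G c, reassoc_of% hc]
  have hc2 : (g₁ ≫ snd G (G ⊗ SGA7.pt (K := k) K)) ≫ c = (g₂ ≫ snd G (G ⊗ SGA7.pt (K := k) K)) ≫ c := by
    rw [Category.assoc, Category.assoc, ← whiskerLeft_snd G c, reassoc_of% hc]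
  have hsnd := twR_eq a pb hRc _ _ τ hc2 (by rw [Category.assoc, hs]; simp only [Category.assoc])
  have e : ∀ g : Z ⟶ G ⊗ (G ⊗ SGA7.pt (K := k) K),
      g ≫ (AlgSt.leftMul G (SGA7.pt (K := k) K)).act ≫ c =
        lift (g ≫ fst G _ * ((g ≫ snd G _) ≫ fst G _)) ((g ≫ snd G _) ≫ snd G _) ≫ c := fun g =>
    (Category.assoc _ _ _).symm.trans (congrArg (fun m => m ≫ c) (comp_leftMul g))
  refine (e g₁).trans (Eq.trans ?_ (e g₂).symm)
  rw [← hfst, hsnd]
  refine (comp_twR a hRc τ _).symm.trans (congrArg (· ≫ c) ?_)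
  apply CartesianMonoidalCategory.hom_ext <;>
    simp [twR, comp_mul, GrpObj.comp_inv, _root_.mul_assoc]

include pb hRc in
omit [IsAffineHom G.hom] in
theorem exists_action :
    ∃ A : AlgGrp.Action G Q, (G ◁ c) ≫ A.act = (AlgSt.leftMul G (SGA7.pt (K := k) K)).act ≫ c := by
  have pb1 := (AlgSt.isPullback_whiskerLeft (G := G) c).paste_vert pb
  obtain ⟨act, hact, -⟩ := exists_desc pb1 ((AlgSt.leftMul G (SGA7.pt (K := k) K)).act ≫ c)
    (fun g₁ g₂ τ hc hs => leftMul_inv a pb hRc g₁ g₂ τ hc hs)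
  have one_act : (η[G] ▷ Q) ≫ act = (λ_ Q).hom := by
    haveI := effectiveEpi_of_isPullback ((AlgSt.isPullback_whiskerLeft (G := 𝟙_ _) c).paste_vert pb)
    refine cancel_of_effectiveEpi (𝟙_ _ ◁ c) ?_
    rw [whisker_exchange_assoc, hact, ← Category.assoc, (AlgSt.leftMul G _).one_act]
    simp
  have mul_act : (μ[G] ▷ Q) ≫ act = (α_ G G Q).hom ≫ (G ◁ act) ≫ act := by
    haveI := effectiveEpi_of_isPullback ((AlgSt.isPullback_whiskerLeft (G := G ⊗ G) c).paste_vert pb)
    refine cancel_of_effectiveEpi ((G ⊗ G) ◁ c) ?_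
    rw [whisker_exchange_assoc, hact, ← Category.assoc, (AlgSt.leftMul G _).mul_act]
    have hn : ((G ⊗ G) ◁ c) ≫ (α_ G G Q).hom = (α_ G G _).hom ≫ (G ◁ (G ◁ c)) := by simp
    rw [reassoc_of% hn, ← MonoidalCategory.whiskerLeft_comp_assoc, hact,
      MonoidalCategory.whiskerLeft_comp_assoc]
    simp only [Category.assoc, hact]
  exact ⟨⟨act, one_act, mul_act⟩, hact⟩

variable (A : AlgGrp.Action G Q) (hact : (G ◁ c) ≫ A.act = (AlgSt.leftMul G (SGA7.pt (K := k) K)).act ≫ c)

include hact in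
omit [IsAffineHom G.hom] [FiniteDimensional L K] [IsGalois L K] in
theorem sm_comp_c {Z : Over (Spec (CommRingCat.of k))} (δ : Z ⟶ G) (w : Z ⟶ G ⊗ SGA7.pt (K := k) K) :
    sm A δ (w ≫ c) = lift (δ * (w ≫ fst G _)) (w ≫ snd G _) ≫ c := by
  show lift δ (w ≫ c) ≫ A.act = _
  rw [← lift_whiskerLeft, Category.assoc, hact, ← Category.assoc, lift_leftMul]

include pb hRc hact in
omit [IsAffineHom G.hom] in
theorem isPullback_action : IsPullback A.act (snd G Q) π π := by
  have pb1 := (AlgSt.isPullback_whiskerLeft (G := G) c).paste_vert pb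
  have w : A.act ≫ π = snd G Q ≫ π := by
    haveI := effectiveEpi_of_isPullback pb1
    refine cancel_of_effectiveEpi (G ◁ c) ?_
    rw [reassoc_of% hact, whiskerLeft_snd_assoc, pb.w, ← Category.assoc, ← Category.assoc]
    congr 1
    exact lift_snd _ _
  have div : ∀ {Z : Over (Spec (CommRingCat.of k))} (x y : Z ⟶ Q), x ≫ π = y ≫ π →
      ∃! δ : Z ⟶ G, sm A δ y = x := by
    intro Z x y hxy
    let pbz := IsPullback.of_hasPullback (y ≫ π) (res (k := k) L K)
    let f := pullback.fst (y ≫ π) (res (k := k) L K)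
    let s' := pullback.snd (y ≫ π) (res (k := k) L K)
    haveI := effectiveEpi_of_isPullback pbz
    let x' := pb.lift (f ≫ x) s' (by rw [Category.assoc, hxy]; exact pullback.condition)
    let y' := pb.lift (f ≫ y) s' (by rw [Category.assoc]; exact pullback.condition)
    have hxc : x' ≫ c = f ≫ x := pb.lift_fst _ _ _
    have hyc : y' ≫ c = f ≫ y := pb.lift_fst _ _ _
    have hxs : x' ≫ snd G _ = s' := pb.lift_snd _ _ _
    have hys : y' ≫ snd G _ = s' := pb.lift_snd _ _ _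
    obtain ⟨δ, hδ, -⟩ := exists_desc pbz ((x' ≫ fst G _) * (y' ≫ fst G _)⁻¹) fun g₁ g₂ τ hc hs => by
      have e : ∀ z : pullback (y ≫ π) (res (k := k) L K) ⟶ G ⊗ SGA7.pt (K := k) K, ∀ v, z ≫ c = f ≫ v →
          z ≫ snd G _ = s' → g₂ ≫ z ≫ fst G _ = g₁ ≫ z ≫ fst G _ * (g₁ ≫ s' ≫ a τ)⁻¹ := by
        intro z v hz hzs
        have := twR_eq a pb hRc (g₁ ≫ z) (g₂ ≫ z) τ (by rw [Category.assoc, Category.assoc, hz, reassoc_of% hc])
          (by rw [Category.assoc, Category.assoc, hzs, reassoc_of% hzs, hs])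
        rw [← Category.assoc, this]
        simp [twR, comp_mul, GrpObj.comp_inv, ← hzs]
      simp only [comp_mul, GrpObj.comp_inv, e x' x hxc hxs, e y' y hyc hys, mul_inv_rev, inv_inv,
        _root_.mul_assoc, inv_mul_cancel_left]
    refine ⟨δ, cancel_of_effectiveEpi f ?_, fun δ' hδ' => cancel_of_effectiveEpi f ?_⟩
    · rw [comp_sm, ← hyc, sm_comp_c A hact, hδ, inv_mul_cancel_right, ← hxc, hys, ← hxs]
      congr 1
      apply CartesianMonoidalCategory.hom_ext <;> simp
    · have h' : lift ((f ≫ δ') * (y' ≫ fst G _)) (y' ≫ snd G _) = x' := by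
        refine pb.hom_ext ?_ (by rw [lift_snd, hys, hxs])
        rw [← sm_comp_c A hact, hyc, ← comp_sm, hδ', hxc]
      rw [hδ, ← h', lift_fst, mul_inv_cancel_right]
  have cart : IsPullback A.act (snd G Q) π π := by
    have hd : ∀ s : PullbackCone π π, sm A (div s.fst s.snd s.condition).choose s.snd = s.fst :=
      fun s => (div s.fst s.snd s.condition).choose_spec.1
    refine IsPullback.of_isLimit (PullbackCone.IsLimit.mk w
      (fun s => lift (div s.fst s.snd s.condition).choose s.snd) (fun s => hd s) (fun s => lift_snd _ _)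
      fun s m hm1 hm2 => ?_)
    have em : m = lift (m ≫ fst G Q) s.snd := by
      apply CartesianMonoidalCategory.hom_ext <;> simp [hm2]
    have h1 : sm A (m ≫ fst G Q) s.snd = s.fst := by
      show lift _ _ ≫ A.act = _
      rw [← em]; exact hm1
    rw [em, (div s.fst s.snd s.condition).choose_spec.2 _ h1]
  exact cart

end

/-- The torsor over `L` defined by a cocycle on the points over `K`. -/
theorem exists_torsor_level (a : (K ≃ₐ[L] K) → (SGA7.pt (K := k) K ⟶ G)) (h1 : a 1 = 1)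
    (hmul : ∀ σ τ, a (σ * τ) = (gal L K σ ≫ a τ) * a σ) :
    ∃ (P : Over (Spec (CommRingCat.of k))) (act : AlgGrp.Action G P) (π : P ⟶ SGA7.pt (K := k) L)
      (_ : IsPullback act.act (snd G P) π π) (p : SGA7.pt (K := k) K ⟶ P),
      p ≫ π = res L K ∧ ∀ τ, gal L K τ ≫ p = sm act (a τ) p := by
  haveI : IsAffine (G ⊗ SGA7.pt (K := k) K).left := by
    have pb := ((AlgSt.isPullback_fst_snd G (SGA7.pt (K := k) K)).map (Over.forget _)).flip
    haveI h : IsAffineHom (toUnit G).left := by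
      have : (toUnit G).left = G.hom := by simpa using Over.w (toUnit G)
      rw [this]; infer_instance
    haveI : IsAffineHom (snd G (SGA7.pt (K := k) K)).left :=
      MorphismProperty.of_isPullback (P := @IsAffineHom) pb.flip h
    haveI : IsAffine (SGA7.pt (K := k) K).left := inferInstanceAs (IsAffine (Spec (CommRingCat.of K)))
    exact isAffine_of_isAffineHom (snd G (SGA7.pt (K := k) K)).left
  obtain ⟨Q, c, π, pb, hRc, -⟩ := exists_quot_of_semilinear (snd G (SGA7.pt (K := k) K)) (twR a)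
    (by
      apply CartesianMonoidalCategory.hom_ext <;> simp [twR, h1, gal_one])
    (fun σ τ => by
      apply CartesianMonoidalCategory.hom_ext
      · simp only [twR, lift_fst, Category.assoc, comp_mul, GrpObj.comp_inv, lift_snd_assoc, hmul, mul_inv_rev]
        rw [_root_.mul_assoc]
      · simp only [twR, lift_snd, Category.assoc, lift_snd_assoc, gal_mul])
    (fun τ => lift_snd _ _)
  obtain ⟨A, hact⟩ := exists_action a pb hRc
  refine ⟨Q, A, π, isPullback_action a pb hRc A hact, lift 1 (𝟙 _) ≫ c, ?_, fun τ => ?_⟩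
  · rw [Category.assoc, pb.w, lift_snd_assoc, Category.id_comp]
  · rw [sm_comp_c A hact, ← Category.assoc, ← comp_twR a hRc τ (lift _ _)]
    congr 1
    apply CartesianMonoidalCategory.hom_ext <;>
      simp [twR, comp_mul, GrpObj.comp_inv]

end GrothLib.FrobTors13
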