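import Groth.Agent.Lib.FrobTors13.Fibre
import Groth.Agent.Lib.FrobTors13.TwistPts
import Groth.Agent.Lib.FrobTors13.Cocycle

/-! The point count of a quotient stack over a finite field as a sum over twists. -/

set_option backward.isDefEq.respectTransparency false
set_option backward.isDefEq.respectTransparency.types false

universe u

open CategoryTheory CategoryTheory.Limits AlgebraicGeometry MonoidalCategory CartesianMonoidalCategory MonObj

namespace GrothLib.FrobTors13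

variable {k : Type u} [Field k] {G X : Over (Spec (CommRingCat.of k))} [GrpObj G] (aX : AlgGrp.Action G X)
  {kb : Type u} [Field kb] [Algebra k kb] (σ : kb ≃ₐ[k] kb)

variable (G) in
/-- Points of the group with the action by twisted conjugation. -/
def TwB (_ : kb ≃ₐ[k] kb) : Type u := SGA7.Pts kb G

noncomputable instance twBAction : MulAction (SGA7.Pts kb G) (TwB G σ) where
  smul h b := (σ • h) * (show SGA7.Pts kb G from b) * h⁻¹
  one_smul b := by
    show (σ • (1 : SGA7.Pts kb G)) * (show SGA7.Pts kb G from b) * 1⁻¹ = b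
    rw [smul_one, _root_.one_mul, inv_one, _root_.mul_one]
  mul_smul h h' b := by
    show (σ • (h * h')) * (show SGA7.Pts kb G from b) * (h * h')⁻¹ =
      (σ • h) * ((σ • h') * (show SGA7.Pts kb G from b) * h'⁻¹) * h⁻¹
    rw [smul_mul', _root_.mul_inv_rev]
    simp only [_root_.mul_assoc]

variable {σ} in
/-- A group point as a point of the twisted conjugation set. -/
def toB (b : SGA7.Pts kb G) : TwB G σ := b

/-- The projection of a pair to the group element. -/
def toTwB (o : Ob aX σ) : TwB G σ := o.1.1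

theorem toTwB_smul (h : SGA7.Pts kb G) (o : Ob aX σ) : toTwB aX σ (h • o) = h • toTwB aX σ o := rfl

variable {aX σ}

theorem mem_stabilizer_iff (h b : SGA7.Pts kb G) :
    h ∈ MulAction.stabilizer (SGA7.Pts kb G) (toB (σ := σ) (b)) ↔ σ • h = b * h * b⁻¹ := by
  rw [MulAction.mem_stabilizer_iff]
  show (σ • h) * b * h⁻¹ = b ↔ _
  rw [mul_inv_eq_iff_eq_mul, eq_mul_inv_iff_mul_eq]

/-- The fibre of the projection. -/
def fibreEquiv (b : SGA7.Pts kb G) :
    {o : Ob aX σ // toTwB aX σ o = b} ≃ {x : SGA7.Pts kb X // σ • x = lift b x ≫ aX.act} where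
  toFun o := ⟨o.1.1.2, by
    have h := o.1.2
    rw [show o.1.1.1 = b from o.2] at h
    exact h⟩
  invFun x := ⟨⟨(b, x.1), x.2⟩, rfl⟩
  left_inv o := Subtype.ext (Subtype.ext (Prod.ext o.2.symm rfl))
  right_inv x := rfl

variable [Finite k] [Algebra.IsAlgebraic k kb] [IsAlgClosed kb] [LocallyOfFiniteType G.hom] [QuasiCompact G.hom]
  (hσ : ∀ x : kb, σ x = x ^ Nat.card k)

include hσ in
theorem finite_twisted [LocallyOfFiniteType X.hom] [QuasiCompact X.hom] (g : SGA7.Pts kb G) :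
    Finite {x : SGA7.Pts kb X // σ • x = lift g x ≫ aX.act} := by
  obtain ⟨n, hn, hv⟩ := exists_fpow_eq_one hσ g
  haveI := finite_fixed_pow (X := X) hσ n hn
  have key : ∀ (x : SGA7.Pts kb X), σ • x = lift g x ≫ aX.act → ∀ i : ℕ,
      σ ^ i • x = sm aX (fpow (MulDistribMulAction.toMonoidHom (SGA7.Pts kb G) σ) g i) x := by
    intro x hx i
    induction i with
    | zero => rw [pow_zero, one_smul]; exact (one_sm aX x).symm
    | succ i ih =>
      rw [pow_succ', mul_smul, ih, GalTw.pts_smul_def, comp_sm]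
      show sm aX (σ • _) (σ • x) = _
      rw [hx]
      exact (mul_sm aX _ g x).symm
  refine Finite.of_injective (fun x => (⟨x.1, ?_⟩ : {x : SGA7.Pts kb X // σ ^ n • x = x})) fun x y h => ?_
  swap
  · exact Subtype.ext (congrArg (fun z : {x : SGA7.Pts kb X // σ ^ n • x = x} => z.1) h)
  rw [key x.1 x.2 n, hv, one_sm]

include hσ in
theorem finite_stabilizer (g : SGA7.Pts kb G) :
    Finite (MulAction.stabilizer (SGA7.Pts kb G) (toB (σ := σ) (g))) := by
  obtain ⟨n, hn, hv⟩ := exists_fpow_eq_one hσ g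
  haveI := finite_fixed_pow (X := G) hσ n hn
  have key : ∀ h : SGA7.Pts kb G, σ • h = g * h * g⁻¹ → ∀ i : ℕ,
      σ ^ i • h = fpow (MulDistribMulAction.toMonoidHom (SGA7.Pts kb G) σ) g i * h *
        (fpow (MulDistribMulAction.toMonoidHom (SGA7.Pts kb G) σ) g i)⁻¹ := by
    intro h hh i
    induction i with
    | zero => rw [pow_zero, one_smul, fpow, _root_.one_mul, inv_one, _root_.mul_one]
    | succ i ih =>
      rw [pow_succ', mul_smul, ih, smul_mul', smul_mul', smul_inv', hh, fpow, _root_.mul_inv_rev]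
      simp only [MulDistribMulAction.toMonoidHom_apply, _root_.mul_assoc]
  refine Finite.of_injective (fun h => (⟨h.1, ?_⟩ : {h : SGA7.Pts kb G // σ ^ n • h = h})) fun x y h =>
    Subtype.ext (congrArg (fun z => z.1) h)
  rw [key h.1 ((mem_stabilizer_iff h.1 g).1 h.2) n, hv, _root_.one_mul, inv_one, _root_.mul_one]

include hσ in
theorem card_actTwist {Y : Over (Spec (CommRingCat.of k))} {z : GpH1.OneCocycle (kb ≃ₐ[k] kb) (SGA7.Pts kb G)}
    (hY : GalTw.IsActTwist kb aX z Y) :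
    Nat.card (SGA7.Pts k Y) = Nat.card {x : SGA7.Pts kb X // σ • x = lift (z σ)⁻¹ x ≫ aX.act} := by
  obtain ⟨φ, hφ⟩ := hY
  rw [card_pts_eq hσ]
  refine Nat.card_congr ((formPts kb φ).subtypeEquiv fun y => ?_)
  have h := formPts_smul kb φ σ y
  rw [hφ σ, ptOfSec_actK] at h
  constructor
  · intro hy
    rw [hy] at h
    conv_rhs => rw [h]
    exact (sm_inv_sm aX (z σ) _).symm
  · intro hx
    apply (formPts kb φ).injective
    rw [h]
    show sm aX (z σ) (σ • formPts kb φ y) = _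
    rw [hx]
    show sm aX (z σ) (sm aX (z σ)⁻¹ _) = _
    rw [← mul_sm, mul_inv_cancel, one_sm]

include hσ in
omit [LocallyOfFiniteType G.hom] [QuasiCompact G.hom] in
theorem card_innTwist {G' : Over (Spec (CommRingCat.of k))} [GrpObj G']
    {z : GpH1.OneCocycle (kb ≃ₐ[k] kb) (SGA7.Pts kb G)} (hG' : GalTw.IsInnTwist kb G z G') :
    Nat.card (SGA7.Pts k G') =
      Nat.card (MulAction.stabilizer (SGA7.Pts kb G) (toB (σ := σ) ((z σ)⁻¹))) := by
  obtain ⟨φ, -, hφ⟩ := hG'
  rw [card_pts_eq hσ]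
  refine Nat.card_congr ((formPts kb φ).subtypeEquiv fun y => ?_)
  have h := formPts_smul kb φ σ y
  rw [hφ σ, ptOfSec_innK] at h
  rw [mem_stabilizer_iff, inv_inv]
  constructor
  · intro hy
    rw [hy] at h
    conv_rhs => rw [h]
    group
  · intro hx
    apply (formPts kb φ).injective
    rw [h, hx]
    group

theorem exists_open_stabilizer (a : SGA7.Pts kb G) :
    IsOpen {τ : kb ≃ₐ[k] kb | τ • a = a} ∧
      ∃ H : Subgroup (SGA7.Pts kb G), (H : Set (SGA7.Pts kb G)).Finite ∧ a ∈ H ∧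
        ∀ (τ : kb ≃ₐ[k] kb) (x : SGA7.Pts kb G), x ∈ H → τ • x ∈ H := by
  obtain ⟨K, hK, a₀, ha₀⟩ := isFin_of_lft (L := k) a
  haveI : Finite K := Module.finite_of_finite k
  haveI : IsGalois k K := GaloisField.instIsGaloisOfFinite
  haveI : Finite (SGA7.pt (K := k) K ⟶ G) := finite_pts K
  have hres : ∀ (τ : kb ≃ₐ[k] kb), gal (k := k) k kb τ ≫ jmap K = jmap K ≫ gal k K (τ.restrictNormal K) :=
    fun τ => gal_jmap K τ _ (fun x => AlgEquiv.restrictNormal_commutes τ K x)
  let inc : (SGA7.pt (K := k) K ⟶ G) →* SGA7.Pts kb G :=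
    { toFun := fun v => jmap K ≫ v, map_one' := MonObj.comp_one _, map_mul' := fun _ _ => MonObj.comp_mul _ _ _ }
  refine ⟨?_, inc.range, Set.finite_range inc, ⟨a₀, ha₀⟩, ?_⟩
  · refine Subgroup.isOpen_mono (H₁ := K.fixingSubgroup) (H₂ := MulAction.stabilizer (kb ≃ₐ[k] kb) a)
      (fun τ hτ => ?_) (IntermediateField.fixingSubgroup_isOpen K)
    rw [MulAction.mem_stabilizer_iff, ← ha₀, GalTw.pts_smul_def, ← Category.assoc]
    refine congrArg (· ≫ a₀) ?_
    refine (hres τ).trans ?_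
    have : τ.restrictNormal K = 1 := AlgEquiv.ext fun x => Subtype.ext
      ((AlgEquiv.restrictNormal_commutes τ K x).trans ((IntermediateField.mem_fixingSubgroup_iff _ _).1 hτ x x.2))
    rw [this, gal_one, Category.comp_id]
  · rintro τ _ ⟨v, rfl⟩
    refine ⟨gal k K (τ.restrictNormal K) ≫ v, ?_⟩
    show jmap K ≫ gal k K (τ.restrictNormal K) ≫ v = gal k kb τ ≫ jmap K ≫ v
    rw [← Category.assoc, ← hres, Category.assoc]

include hσ in
theorem cocRes :
    Function.Bijective (fun z : GpH1.OneCocycleLC (kb ≃ₐ[k] kb) (SGA7.Pts kb G) => z.1.1 σ) ∧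
      ∀ z z' : GpH1.OneCocycleLC (kb ≃ₐ[k] kb) (SGA7.Pts kb G),
        z.cl = z'.cl ↔ ∃ g : SGA7.Pts kb G, z'.1.1 σ = g * z.1.1 σ * (σ • g)⁻¹ :=
  Coc.result (A := SGA7.Pts kb G) hσ (fun a => (exists_open_stabilizer a).1)
    (fun a => (exists_open_stabilizer a).2)

include hσ in
/-- Classes of continuous cocycles are the classes for twisted conjugation. -/
theorem cl_eq_iff (z z' : GpH1.OneCocycleLC (kb ≃ₐ[k] kb) (SGA7.Pts kb G)) :
    z.cl = z'.cl ↔ ∃ u : SGA7.Pts kb G,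
      u • (toB (σ := σ) ((z.1 σ)⁻¹)) = (toB (σ := σ) ((z'.1 σ)⁻¹)) := by
  rw [(cocRes hσ).2 z z']
  constructor
  · rintro ⟨u, hu⟩
    refine ⟨u, ?_⟩
    show (σ • u) * (z.1 σ)⁻¹ * u⁻¹ = (z'.1 σ)⁻¹
    rw [show (z'.1 σ : SGA7.Pts kb G) = _ from hu]
    group
  · rintro ⟨u, hu⟩
    refine ⟨u, ?_⟩
    have h : (σ • u) * (z.1 σ)⁻¹ * u⁻¹ = (z'.1 σ)⁻¹ := hu
    show z'.1 σ = _
    rw [← inv_inv (z'.1 σ), ← h]
    group

include hσ in
theorem exists_cocycle_of (b : SGA7.Pts kb G) :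
    ∃ z : GpH1.OneCocycleLC (kb ≃ₐ[k] kb) (SGA7.Pts kb G), (z.1 σ)⁻¹ = b := by
  obtain ⟨z, hz⟩ := (cocRes hσ).1.2 b⁻¹
  exact ⟨z, inv_eq_iff_eq_inv.2 hz⟩

end GrothLib.FrobTors13
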